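import Cfsg.Agent.Lib46.NilPermBound
import Mathlib.GroupTheory.Nilpotent
import Mathlib.GroupTheory.GroupAction.Blocks
import Mathlib.Data.Finite.Perm
import Mathlib.GroupTheory.Complement

/-!
Nilpotent permutation groups have order at most `nilBound n`.
-/

set_option autoImplicit false
set_option linter.unusedSectionVars false
set_option linter.style.haveILetI false

namespace Cfsg.Agent.Lib46.NilPerm

open Equiv

universe u

theorem card_sylow_perm {α : Type*} [Finite α] (P : Sylow 2 (Perm α)) :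
    Nat.card P = 2 ^ vTwo (Nat.card α) := by
  haveI : Fact (Nat.Prime 2) := ⟨Nat.prime_two⟩
  rw [P.card_eq_multiplicity, Nat.card_perm, Nat.factorization_def _ Nat.prime_two, vTwo]

/-- A finite nilpotent group with a prime divisor splits off its Sylow subgroup. -/
theorem exists_split {N : Type*} [Group N] [Finite N] (hN : Group.IsNilpotent N) {p : ℕ}
    (hp : p.Prime) (hdvd : p ∣ Nat.card N) :
    ∃ P Q : Subgroup N, P.Normal ∧ Q.Normal ∧ IsPGroup p P ∧ P ≠ ⊥ ∧
      (Nat.card P).Coprime (Nat.card Q) ∧ Subgroup.IsComplement' Q P ∧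
      (∀ x ∈ P, ∀ y ∈ Q, Commute x y) := by
  haveI := Fact.mk hp
  haveI := hN
  obtain ⟨e⟩ := ((Group.isNilpotent_of_finite_tfae (G := N)).out 0 4 rfl rfl).mp hN
  have hmem : p ∈ (Nat.card N).primeFactors :=
    Nat.mem_primeFactors.mpr ⟨hp, hdvd, Nat.card_pos.ne'⟩
  obtain ⟨P0⟩ : Nonempty (Sylow p N) := inferInstance
  let π : N →* (P0 : Subgroup N) := MonoidHom.mk'
    (fun x => e.symm x ⟨p, hmem⟩ P0) (fun x y => by simp only [map_mul, Pi.mul_apply])
  have hsurj : Function.Surjective π := fun x => by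
    classical
    refine ⟨e (Pi.mulSingle ⟨p, hmem⟩ (Pi.mulSingle P0 x)), ?_⟩
    simp [π]
  have hcard : Nat.card π.ker * Nat.card P0 = Nat.card N := by
    rw [← π.ker.card_mul_index, Subgroup.index_ker, MonoidHom.range_eq_top.mpr hsurj,
      Subgroup.card_top]
  have hQidx : Nat.card π.ker = (P0 : Subgroup N).index := by
    have := (P0 : Subgroup N).card_mul_index
    rw [← hcard, mul_comm] at this
    exact (Nat.eq_of_mul_eq_mul_right Nat.card_pos this).symm
  have hcop : (Nat.card P0).Coprime (Nat.card π.ker) := by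
    obtain ⟨k, hk⟩ := IsPGroup.iff_card.mp P0.isPGroup'
    rw [hk, hQidx]
    exact ((hp.coprime_iff_not_dvd).mpr P0.not_dvd_index).pow_left k
  have hdis : Disjoint (P0 : Subgroup N) π.ker :=
    disjoint_iff.mpr (Subgroup.inf_eq_bot_of_coprime hcop)
  haveI hn : (P0 : Subgroup N).Normal := inferInstance
  refine ⟨P0, π.ker, hn, inferInstance, P0.isPGroup', ?_, hcop, ?_, fun x hx y hy =>
    Subgroup.commute_of_normal_of_disjoint _ _ hn inferInstance hdis x y hx hy⟩
  · intro h
    have h1 : p ∣ Nat.card P0 := P0.dvd_card_of_dvd_card hdvd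
    rw [show Nat.card P0 = Nat.card (⊥ : Subgroup N) by rw [← h], Subgroup.card_bot] at h1
    exact hp.not_dvd_one h1
  · exact Subgroup.isComplement'_of_coprime hcard hcop.symm

theorem smul_mem_orbit {H X : Type*} [Group H] [MulAction H X] (g : H) (a x : X) :
    g • x ∈ MulAction.orbit H a ↔ x ∈ MulAction.orbit H a := by
  rw [← MulAction.orbit_eq_iff, MulAction.orbit_smul, MulAction.orbit_eq_iff]

/-- Restriction of a permutation group to an invariant set. -/
def resHom {α : Type*} (N : Subgroup (Perm α)) (s : Set α)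
    (hs : ∀ g ∈ N, ∀ x, g x ∈ s ↔ x ∈ s) : N →* Perm s :=
  MonoidHom.mk' (fun g => (g : Perm α).subtypePerm (hs g g.2)) (fun _ _ => by ext; rfl)

theorem card_le_of_resHom {α : Type u} [Finite α] {N : Subgroup (Perm α)}
    (hN : Group.IsNilpotent N) {s : Set α} (hs : ∀ g ∈ N, ∀ x, g x ∈ s ↔ x ∈ s) {m : ℕ}
    (hm : Nat.card s = m) (IH : ∀ (β : Type u) [Finite β] (M : Subgroup (Perm β)),
      Nat.card β = m → Group.IsNilpotent M → Nat.card M ≤ nilBound m) :
    Nat.card (resHom N s hs).range ≤ nilBound m :=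
  haveI := hN
  IH s _ hm (Group.nilpotent_of_surjective _ (resHom N s hs).rangeRestrict_surjective)

/-- A transitive nilpotent group that is not a `p`-group splits its degree. -/
theorem exists_factor_of_transitive {n : ℕ} {α : Type u} [Finite α]
    (IH : ∀ m < n, ∀ (β : Type u) [Finite β] (M : Subgroup (Perm β)), Nat.card β = m →
      Group.IsNilpotent M → Nat.card M ≤ nilBound m)
    (N : Subgroup (Perm α)) (hn : Nat.card α = n) (hN : Group.IsNilpotent N) (a : α)
    [MulAction.IsPretransitive N α] (hpg : ¬ ∃ p, p.Prime ∧ IsPGroup p N) :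
    ∃ k l, 2 ≤ k ∧ 2 ≤ l ∧ k.Coprime l ∧ k * l ∣ n ∧ Nat.card N ≤ nilBound k * nilBound l := by
  haveI := hN
  haveI : Nonempty α := ⟨a⟩
  have h1 : Nat.card N ≠ 1 := fun h1 =>
    hpg ⟨2, Nat.prime_two, IsPGroup.of_card (n := 0) (by simpa using h1)⟩
  obtain ⟨p, hp, hdvd⟩ := Nat.exists_prime_and_dvd h1
  obtain ⟨P, Q, hPn, hQn, hP, hP1, hcop, hcomp, hcomm⟩ := exists_split hN hp hdvd
  have hQ1 : Q ≠ ⊥ := by
    rintro rfl
    refine hpg ⟨p, hp, ?_⟩
    rw [Subgroup.isComplement'_bot_left] at hcomp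
    subst hcomp
    exact hP.of_equiv Subgroup.topEquiv
  have key : ∀ (R S : Subgroup N), R.Normal → R ≠ ⊥ → (∀ x ∈ R, ∀ y ∈ S, Commute x y) →
      (∀ g : N, ∃ y ∈ S, ∃ x ∈ R, g = y * x) →
      ∃ k, 2 ≤ k ∧ k ∣ n ∧ k ∣ Nat.card R ∧ (k < n → Nat.card R ≤ nilBound k) := by
    intro R S hRn hR1 hRS hprod
    let O := MulAction.orbit R a
    haveI : Nonempty O := ⟨⟨a, MulAction.mem_orbit_self a⟩⟩
    let M : Subgroup (Perm α) := R.map N.subtype
    have hinv : ∀ g ∈ M, ∀ x, g x ∈ O ↔ x ∈ O := by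
      rintro _ ⟨r, hr, rfl⟩ x
      exact smul_mem_orbit (⟨r, hr⟩ : R) a x
    have hinj : Function.Injective (resHom M O hinv) := by
      refine (injective_iff_map_eq_one _).mpr fun g hg => ?_
      obtain ⟨r, hr, hrg⟩ := g.2
      refine Subtype.ext (Equiv.ext fun b => ?_)
      obtain ⟨h, rfl⟩ := MulAction.exists_smul_eq N a b
      obtain ⟨y, hy, x, hx, rfl⟩ := hprod h
      have hfix : (r : Perm α) ((x : Perm α) a) = (x : Perm α) a := by
        have := congrArg Subtype.val
          (Equiv.congr_fun hg ⟨(x : Perm α) a, ⟨⟨x, hx⟩, rfl⟩⟩)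
        simpa [resHom, ← hrg] using this
      have hc : (r : Perm α) * y = y * r := congrArg Subtype.val (hRS r hr y hy).eq
      show (g : Perm α) ((y : Perm α) ((x : Perm α) a)) = (y : Perm α) ((x : Perm α) a)
      rw [← hrg]
      show ((r : Perm α) * y) ((x : Perm α) a) = _
      rw [hc, Perm.mul_apply, hfix]
    have hMc : Nat.card M = Nat.card R := Subgroup.card_subtype N R
    have hblock : O.ncard ∣ Nat.card α :=
      haveI := hRn
      (MulAction.IsBlock.orbit_of_normal (G := N) a).ncard_dvd_card ⟨a, MulAction.mem_orbit_self a⟩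
    refine ⟨Nat.card O, ?_, ?_, ?_, fun hk => ?_⟩
    · by_contra hlt
      have hsub : Subsingleton O :=
        (Nat.card_eq_one_iff_unique.mp (le_antisymm (by omega)
          (Nat.card_pos (α := O)))).1
      haveI : Subsingleton M := hinj.subsingleton
      refine hR1 (Subgroup.card_eq_one.mp ?_)
      rw [← hMc, Nat.card_unique]
    · rw [Nat.card_coe_set_eq, ← hn]; exact hblock
    · rw [← Subgroup.index_mul_card (MulAction.stabilizer R a), MulAction.index_stabilizer,
        Nat.card_coe_set_eq]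
      exact dvd_mul_right _ _
    · have hMn : Group.IsNilpotent M :=
        Group.nilpotent_of_mulEquiv
          (Subgroup.equivMapOfInjective R N.subtype N.subtype_injective)
      have := card_le_of_resHom hMn hinv rfl fun β _ M' hβ hM' => IH _ hk β M' hβ hM'
      rwa [← MonoidHom.ofInjective hinj |>.toEquiv |> Nat.card_congr, hMc] at this
  obtain ⟨k, hk2, hkn, hkP, hkb⟩ := key P Q hPn hP1 hcomm (fun g => by
    obtain ⟨⟨y, x⟩, hxy⟩ := hcomp.2 g
    exact ⟨y, y.2, x, x.2, hxy.symm⟩)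
  obtain ⟨l, hl2, hln, hlQ, hlb⟩ := key Q P hQn hQ1 (fun x hx y hy => (hcomm y hy x hx).symm)
    (fun g => by
      obtain ⟨⟨y, x⟩, hxy⟩ := hcomp.2 g
      exact ⟨x, x.2, y, y.2, by rw [(hcomm x x.2 y y.2).eq]; exact hxy.symm⟩)
  have hkl : k * l ∣ n := Nat.Coprime.mul_dvd_of_dvd_of_dvd
    ((hcop.coprime_dvd_left hkP).coprime_dvd_right hlQ) hkn hln
  have hn0 : 0 < n := hn ▸ Nat.card_pos
  have hle : k * l ≤ n := Nat.le_of_dvd hn0 hkl
  refine ⟨k, l, hk2, hl2, (hcop.coprime_dvd_left hkP).coprime_dvd_right hlQ, hkl, ?_⟩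
  rw [← hcomp.card_mul_card, mul_comm (nilBound k)]
  exact Nat.mul_le_mul (hlb (by nlinarith)) (hkb (by nlinarith))

/-- The order of a nilpotent permutation group of degree `n` is at most `nilBound n`. -/
theorem card_le_nilBound : ∀ (n : ℕ) (α : Type u) [Finite α] (N : Subgroup (Perm α)),
    Nat.card α = n → Group.IsNilpotent N → Nat.card N ≤ nilBound n := by
  intro n
  induction n using Nat.strong_induction_on with
  | _ n IH =>
  intro α _ N hn hN
  haveI := hN
  by_cases hpg : ∃ p, p.Prime ∧ IsPGroup p N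
  · obtain ⟨p, hp, hP⟩ := hpg
    haveI := Fact.mk hp
    obtain ⟨e, he⟩ := IsPGroup.iff_card.mp hP
    rw [he]
    exact prime_pow_le_nilBound hp (by rw [← he, ← hn, ← Nat.card_perm]; exact N.card_subgroup_dvd_card)
  have h1 : Nat.card N ≠ 1 := fun h1 => hpg ⟨2, Nat.prime_two, IsPGroup.of_card (n := 0) (by simpa using h1)⟩
  obtain ⟨a⟩ : Nonempty α := by
    by_contra hne
    rw [not_nonempty_iff] at hne
    exact h1 (Nat.card_unique)
  haveI : Nonempty α := ⟨a⟩
  by_cases htr : MulAction.IsPretransitive N α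
  · obtain ⟨k, l, hk2, hl2, -, hkl, hle⟩ := exists_factor_of_transitive IH N hn hN a hpg
    have hn0 : 0 < n := hn ▸ Nat.card_pos
    have hkl' : k + l ≤ n := le_trans (by nlinarith) (Nat.le_of_dvd hn0 hkl)
    exact hle.trans ((nilBound_add k l).trans (nilBound_mono hkl'))
  · let s := MulAction.orbit N a
    have hinv : ∀ g ∈ N, ∀ x, g x ∈ s ↔ x ∈ s := fun g hg x =>
      smul_mem_orbit (⟨g, hg⟩ : N) a x
    have hinv' : ∀ g ∈ N, ∀ x, g x ∈ sᶜ ↔ x ∈ sᶜ := fun g hg x => not_congr (hinv g hg x)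
    have hs : s ≠ Set.univ := fun h => htr ⟨fun x y => by
      obtain ⟨g, hg⟩ : x ∈ s := h ▸ Set.mem_univ x
      obtain ⟨g', hg'⟩ : y ∈ s := h ▸ Set.mem_univ y
      exact ⟨g' * g⁻¹, by simp only at hg hg'; rw [← hg, ← hg', mul_smul, inv_smul_smul]⟩⟩
    have hsum : Nat.card s + Nat.card (sᶜ : Set α) = n := by
      rw [Nat.card_coe_set_eq, Nat.card_coe_set_eq, Set.ncard_add_ncard_compl, hn]
    haveI : Nonempty s := ⟨⟨a, MulAction.mem_orbit_self a⟩⟩
    haveI : Nonempty (sᶜ : Set α) := (Set.nonempty_compl.mpr hs).to_subtype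
    have hs0 : 0 < Nat.card s := Nat.card_pos
    have hs0' : 0 < Nat.card (sᶜ : Set α) := Nat.card_pos
    have b1 := card_le_of_resHom hN hinv rfl fun β _ M hβ hM =>
      IH _ (by omega) β M hβ hM
    have b2 := card_le_of_resHom hN hinv' rfl fun β _ M hβ hM =>
      IH _ (by omega) β M hβ hM
    calc Nat.card N ≤ Nat.card ((resHom N s hinv).range × (resHom N sᶜ hinv').range) := by
          refine Nat.card_le_card_of_injective
            (fun g => ((resHom N s hinv).rangeRestrict g, (resHom N sᶜ hinv').rangeRestrict g))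
            fun g g' h => Subtype.ext (Equiv.ext fun x => ?_)
          by_cases hx : x ∈ s
          · exact congrArg Subtype.val (Equiv.congr_fun (congrArg Subtype.val (congrArg Prod.fst h)) ⟨x, hx⟩)
          · exact congrArg Subtype.val (Equiv.congr_fun (congrArg Subtype.val (congrArg Prod.snd h)) ⟨x, hx⟩)
      _ ≤ nilBound (Nat.card s) * nilBound (Nat.card (sᶜ : Set α)) := by
          rw [Nat.card_prod]; exact Nat.mul_le_mul b1 b2
      _ ≤ nilBound n := (nilBound_add _ _).trans_eq (by rw [hsum])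

end Cfsg.Agent.Lib46.NilPerm
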