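import Cfsg.Agent.Lib46.NilPermBound
import Mathlib.Tactic

/-!
Numerical bounds for nilpotent subgroups of alternating groups.
-/

set_option autoImplicit false
set_option linter.unusedSectionVars false
set_option linter.style.haveILetI false

namespace Cfsg.Agent.Lib46.NilPerm

/-- The extremal order in the alternating group. -/
noncomputable def altBound (n : ℕ) : ℕ :=
  if n = 3 then 3 else if n = 5 then 5 else if n = 6 then 9 else if n = 9 then 81
  else if n ≤ 1 then 1 else nilBound n / 2

/-- Degrees in which the Sylow `2`-subgroup of the alternating group is not extremal. -/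
def IsGoodDeg (n : ℕ) : Prop := 2 ≤ n ∧ n ≠ 3 ∧ n ≠ 5 ∧ n ≠ 6 ∧ n ≠ 9

theorem altBound_of_good {n : ℕ} (h : IsGoodDeg n) : altBound n = nilBound n / 2 := by
  obtain ⟨h1, h3, h5, h6, h9⟩ := h
  simp only [altBound, if_neg h3, if_neg h5, if_neg h6, if_neg h9, if_neg (by omega : ¬ n ≤ 1)]

theorem vTwo_vals : vTwo 0 = 0 ∧ vTwo 4 = 3 ∧ vTwo 8 = 7 := by
  haveI : Fact (Nat.Prime 2) := ⟨Nat.prime_two⟩
  have key : ∀ n k, 2 ^ k ∣ n.factorial → ¬ 2 ^ (k + 1) ∣ n.factorial → vTwo n = k := by
    intro n k h1 h2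
    refine le_antisymm (not_lt.mp fun h => h2 ?_) (le_vTwo h1)
    exact (padicValNat_dvd_iff_le n.factorial_ne_zero).mpr h
  exact ⟨key 0 0 (by decide) (by decide), key 4 3 (by decide) (by decide),
    key 8 7 (by decide) (by decide)⟩

/-- Values of `altBound` up to nine, lower bounds up to eighteen. -/
def altTable : List ℕ :=
  [1, 1, 1, 3, 4, 5, 9, 12, 64, 81, 128, 192, 512, 512, 1024, 1536, 8192, 8192, 16384]

theorem altBound_small {n : ℕ} (h : n ≤ 9) : altBound n = altTable.getD n 0 := by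
  obtain ⟨h0, h4, h8⟩ := vTwo_vals
  interval_cases n <;> norm_num [altBound, altTable, nilBound, h0, h4, h8]

theorem altTable_le {n : ℕ} (h : n ≤ 18) : altTable.getD n 0 ≤ altBound n := by
  rcases le_or_gt n 9 with h9 | h9
  · rw [altBound_small h9]
  have h8 : 2 ^ 7 ≤ 2 ^ vTwo 8 := Nat.pow_le_pow_right (by norm_num) (le_vTwo (by decide))
  have h12 : 2 ^ 10 ≤ 2 ^ vTwo 12 := Nat.pow_le_pow_right (by norm_num) (le_vTwo (by decide))
  have h16 : 2 ^ 15 ≤ 2 ^ vTwo 16 := Nat.pow_le_pow_right (by norm_num) (le_vTwo (by decide))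
  interval_cases n <;> norm_num [altBound, altTable, nilBound] <;> omega

theorem half_le_altBound (n : ℕ) : nilBound n / 2 ≤ altBound n := by
  by_cases hg : IsGoodDeg n
  · rw [altBound_of_good hg]
  have hn : n ≤ 9 := by simp only [IsGoodDeg] at hg; omega
  obtain ⟨h0, h4, h8⟩ := vTwo_vals
  rw [altBound_small hn]
  simp only [IsGoodDeg] at hg
  interval_cases n <;> first | (exfalso; omega) | norm_num [altTable, nilBound, h0, h4, h8]

theorem altBound_le (n : ℕ) : altBound n ≤ nilBound n := by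
  by_cases hg : IsGoodDeg n
  · rw [altBound_of_good hg]; exact Nat.div_le_self _ _
  have hn : n ≤ 9 := by simp only [IsGoodDeg] at hg; omega
  obtain ⟨h0, h4, h8⟩ := vTwo_vals
  rw [altBound_small hn]
  simp only [IsGoodDeg] at hg
  interval_cases n <;> first | (exfalso; omega) | norm_num [altTable, nilBound, h0, h4, h8]

theorem two_mul_altBound {n : ℕ} (h : IsGoodDeg n) : 2 * altBound n ≤ nilBound n := by
  rw [altBound_of_good h]; exact Nat.mul_div_le _ _

theorem altBound_mul {a b : ℕ} (ha : 1 ≤ a) (hb : 1 ≤ b) :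
    altBound a * altBound b ≤ altBound (a + b) := by
  by_cases hs : a ≤ 9 ∧ b ≤ 9
  · have table : ∀ a b : Fin 10, 1 ≤ (a : ℕ) → 1 ≤ (b : ℕ) →
        altTable.getD (a : ℕ) 0 * altTable.getD (b : ℕ) 0 ≤ altTable.getD ((a : ℕ) + b) 0 := by
      decide
    rw [altBound_small hs.1, altBound_small hs.2]
    exact (table ⟨a, by omega⟩ ⟨b, by omega⟩ ha hb).trans (altTable_le (show a + b ≤ 18 by omega))
  · have hgood : IsGoodDeg (a + b) := by simp only [IsGoodDeg]; omega
    rw [altBound_of_good hgood, Nat.le_div_iff_mul_le (by norm_num)]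
    rcases lt_or_ge 9 a with h | h
    · calc altBound a * altBound b * 2 = 2 * altBound a * altBound b := by ring
        _ ≤ nilBound a * nilBound b := Nat.mul_le_mul
            (two_mul_altBound (by simp only [IsGoodDeg]; omega)) (altBound_le b)
        _ ≤ nilBound (a + b) := nilBound_add a b
    · calc altBound a * altBound b * 2 = altBound a * (2 * altBound b) := by ring
        _ ≤ nilBound a * nilBound b := Nat.mul_le_mul (altBound_le a)
            (two_mul_altBound (by simp only [IsGoodDeg]; omega))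
        _ ≤ nilBound (a + b) := nilBound_add a b

theorem pow_le_nilBound_pow' : ∀ n : ℕ, 16 ≤ n → 2 ^ (4 * (n - 1) + 5) ≤ nilBound n ^ 5 := by
  intro n
  induction n using Nat.strong_induction_on with
  | _ n IH =>
  intro hn
  by_cases h24 : 24 ≤ n
  · obtain ⟨m, rfl⟩ := Nat.exists_eq_add_of_le (show 8 ≤ n by omega)
    have h1 := IH m (by omega) (by omega)
    have h2 : 2 ^ 7 ≤ nilBound 8 :=
      (Nat.pow_le_pow_right (by norm_num) (le_vTwo (by decide))).trans (two_pow_vTwo_le 8)
    calc 2 ^ (4 * (8 + m - 1) + 5) = (2 : ℕ) ^ (32 + (4 * (m - 1) + 5)) := by congr 1; omega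
      _ = 2 ^ 32 * 2 ^ (4 * (m - 1) + 5) := pow_add _ _ _
      _ ≤ nilBound 8 ^ 5 * nilBound m ^ 5 := Nat.mul_le_mul
          (le_trans (by norm_num) (Nat.pow_le_pow_left h2 5)) h1
      _ ≤ nilBound (8 + m) ^ 5 := by
          rw [← mul_pow]; exact Nat.pow_le_pow_left (nilBound_add 8 m) 5
  · have h16 : 2 ^ 15 ≤ 2 ^ vTwo 16 := Nat.pow_le_pow_right (by norm_num) (le_vTwo (by decide))
    have h20 : 2 ^ 18 ≤ 2 ^ vTwo 20 := Nat.pow_le_pow_right (by norm_num) (le_vTwo (by decide))
    have key : ∀ c w, 2 ^ (4 * (n - 1) + 5) ≤ (c * 2 ^ w) ^ 5 → c * 2 ^ w ≤ nilBound n →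
        2 ^ (4 * (n - 1) + 5) ≤ nilBound n ^ 5 := fun c w h1 h2 =>
      h1.trans (Nat.pow_le_pow_left h2 5)
    interval_cases n
    · exact key 1 15 (by norm_num) (by norm_num [nilBound]; omega)
    · exact key 1 15 (by norm_num) (by norm_num [nilBound]; omega)
    · exact key 2 15 (by norm_num) (by norm_num [nilBound]; omega)
    · exact key 3 15 (by norm_num) (by norm_num [nilBound]; omega)
    · exact key 1 18 (by norm_num) (by norm_num [nilBound]; omega)
    · exact key 1 18 (by norm_num) (by norm_num [nilBound]; omega)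
    · exact key 2 18 (by norm_num) (by norm_num [nilBound]; omega)
    · exact key 3 18 (by norm_num) (by norm_num [nilBound]; omega)

/-- An odd prime power dividing `n!` is at most the alternating bound. -/
theorem odd_prime_pow_le_altBound {p e n : ℕ} (hp : p.Prime) (hp2 : p ≠ 2)
    (h : p ^ e ∣ n.factorial) : p ^ e ≤ altBound n := by
  haveI := Fact.mk hp
  have he : e ≤ padicValNat p n.factorial := (padicValNat_dvd_iff_le n.factorial_ne_zero).mp h
  have hp3 : 3 ≤ p := by have := hp.two_le; omega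
  have hone : 1 ≤ altBound n := by
    rcases le_or_gt n 9 with h9 | h9
    · rw [altBound_small h9]; interval_cases n <;> norm_num [altTable]
    · rw [altBound_of_good (by simp only [IsGoodDeg]; omega)]
      have := nilBound_mono (show 4 ≤ n by omega)
      have h4 : nilBound 4 = 8 := by norm_num [nilBound, vTwo_vals.2.1]
      omega
  rcases Nat.eq_zero_or_pos e with rfl | he0
  · simpa using hone
  have hn : n ≠ 0 := by
    rintro rfl
    simp at he
    omega
  have hbd : (p - 1) * e ≤ n - 1 := by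
    have := sub_one_mul_padicValNat_factorial_lt_of_ne_zero (p := p) hn
    have := Nat.mul_le_mul_left (p - 1) he
    omega
  by_cases h16 : 16 ≤ n
  · rw [altBound_of_good (by simp only [IsGoodDeg]; omega),
      Nat.le_div_iff_mul_le (by norm_num)]
    refine (Nat.pow_le_pow_iff_left (show (5 : ℕ) ≠ 0 by norm_num)).mp ?_
    calc (p ^ e * 2) ^ 5 = (p ^ 5) ^ e * 2 ^ 5 := by rw [mul_pow, pow_right_comm]
      _ ≤ (2 ^ (4 * (p - 1))) ^ e * 2 ^ 5 :=
        Nat.mul_le_mul_right _ (Nat.pow_le_pow_left (five_le_four hp3) e)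
      _ ≤ 2 ^ (4 * (n - 1) + 5) := by
        rw [← pow_mul, ← pow_add, mul_assoc]
        exact Nat.pow_le_pow_right (by norm_num) (by omega)
      _ ≤ nilBound n ^ 5 := pow_le_nilBound_pow' n h16
  · have hp16 : p < 16 := by
      have := Nat.le_mul_of_pos_right (p - 1) he0
      omega
    have he8 : e < 8 := by
      have : 2 * e ≤ (p - 1) * e := Nat.mul_le_mul_right e (by omega)
      omega
    have table : ∀ (n : Fin 16), ∀ p ∈ [3, 5, 7, 11, 13], ∀ (e : Fin 8),
        p ^ (e : ℕ) ∣ Nat.factorial (n : ℕ) → p ^ (e : ℕ) ≤ altTable.getD (n : ℕ) 0 := by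
      decide +kernel
    have hmem : p ∈ [3, 5, 7, 11, 13] := by
      interval_cases p <;> first | decide | (exfalso; revert hp; decide)
    exact (table ⟨n, by omega⟩ p hmem ⟨e, he8⟩ h).trans (altTable_le (show n ≤ 18 by omega))

end Cfsg.Agent.Lib46.NilPerm
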