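import Cfsg.Agent.Lib46.NilPermMax
import Cfsg.Agent.Lib46.NilPermAltBound
import Mathlib.GroupTheory.SpecificGroups.Alternating

/-!
Nilpotent subgroups of largest order in alternating groups.
-/

set_option autoImplicit false
set_option linter.unusedSectionVars false
set_option linter.style.haveILetI false

namespace Cfsg.Agent.Lib46.NilPerm

open Equiv
open scoped Pointwise

universe u

theorem two_mul_card_le_of_lt {G : Type*} [Group G] [Finite G] {H : Subgroup G} (h : H ≠ ⊤) :
    2 * Nat.card H ≤ Nat.card G := by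
  rw [← H.card_mul_index, mul_comm 2]
  refine Nat.mul_le_mul_left _ ?_
  have h1 : H.index ≠ 1 := mt Subgroup.index_eq_one.mp h
  have h2 : H.index ≠ 0 := Subgroup.index_ne_zero_of_finite
  omega

/-- The bound in the alternating group. -/
theorem card_le_altBound : ∀ (n : ℕ) (α : Type u) [Fintype α] [DecidableEq α]
    (N : Subgroup (Perm α)), Nat.card α = n → Group.IsNilpotent N →
    N ≤ alternatingGroup α → Nat.card N ≤ altBound n := by
  intro n
  induction n using Nat.strong_induction_on with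
  | _ n IH =>
  intro α _ _ N hn hN hA
  haveI := hN
  rcases subsingleton_or_nontrivial α with hsub | hnt
  · have h1 : n ≤ 9 := by
      have := Finite.card_le_one_iff_subsingleton.mpr hsub
      omega
    rw [Nat.card_unique, altBound_small h1]
    have := Finite.card_le_one_iff_subsingleton.mpr hsub
    interval_cases n <;> norm_num [altTable]
  have hAcard := two_mul_nat_card_alternatingGroup (α := α)
  rw [Nat.card_perm, hn] at hAcard
  have hNdvd : 2 * Nat.card N ∣ n.factorial :=
    hAcard ▸ Nat.mul_dvd_mul_left 2 (Subgroup.card_dvd_of_le hA)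
  by_cases hpg : ∃ p, p.Prime ∧ IsPGroup p N
  · obtain ⟨p, hp, hP⟩ := hpg
    haveI := Fact.mk hp
    obtain ⟨e, he⟩ := IsPGroup.iff_card.mp hP
    rw [he] at hNdvd ⊢
    by_cases hp2 : p = 2
    · subst hp2
      rw [← pow_succ'] at hNdvd
      refine le_trans ?_ (half_le_altBound n)
      rw [Nat.le_div_iff_mul_le (by norm_num), ← pow_succ]
      exact (Nat.pow_le_pow_right (by norm_num) (le_vTwo hNdvd)).trans (two_pow_vTwo_le n)
    · exact odd_prime_pow_le_altBound hp hp2 (dvd_of_mul_left_dvd hNdvd)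
  obtain ⟨a⟩ : Nonempty α := inferInstance
  by_cases htr : MulAction.IsPretransitive N α
  · obtain ⟨k, l, hk, hl, hcop, hkl, hle⟩ := exists_factor_of_transitive
      (fun m _ β _ M hβ hM => card_le_nilBound m β M hβ hM) N hn hN a hpg
    have hn0 : 0 < n := hn ▸ Nat.card_pos
    have hkn : k * l ≤ n := Nat.le_of_dvd hn0 hkl
    have h6 : 6 ≤ k * l := by
      rcases Nat.lt_or_ge k 3 with hk3 | hk3
      · obtain rfl : k = 2 := by omega
        have : l ≠ 2 := by rintro rfl; norm_num at hcop
        omega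
      · nlinarith
    by_cases hn6 : n = 6
    · subst hn6
      obtain ⟨rfl, rfl⟩ | ⟨rfl, rfl⟩ : (k = 2 ∧ l = 3) ∨ (k = 3 ∧ l = 2) := by
        have : k ≤ 3 := by nlinarith
        have : l ≤ 3 := by nlinarith
        interval_cases k <;> interval_cases l <;> omega
      all_goals
        refine hle.trans ?_
        rw [altBound_small (by norm_num)]
        norm_num [altTable, nilBound, vTwo_vals.1]
    have hn9 : n ≠ 9 := by
      rintro rfl
      have hk' : k ∈ Nat.divisors 9 := Nat.mem_divisors.mpr ⟨dvd_of_mul_right_dvd hkl, by norm_num⟩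
      have hl' : l ∈ Nat.divisors 9 := Nat.mem_divisors.mpr ⟨dvd_of_mul_left_dvd hkl, by norm_num⟩
      have hd : Nat.divisors 9 = {1, 3, 9} := by decide
      rw [hd] at hk' hl'
      simp only [Finset.mem_insert, Finset.mem_singleton] at hk' hl'
      rcases hk' with rfl | rfl | rfl <;> rcases hl' with rfl | rfl | rfl <;>
        first | omega | (norm_num at hcop)
    have hgood : IsGoodDeg n := by simp only [IsGoodDeg]; omega
    have hsum : k + l + 2 ≤ n := by
      rcases Nat.lt_or_ge (k * l) n with hlt | hge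
      · obtain ⟨c, hc⟩ := hkl
        have : 2 ≤ c := by
          by_contra hc2
          interval_cases c <;> omega
        have : k * l * 2 ≤ k * l * c := Nat.mul_le_mul_left _ this
        have : k + l ≤ k * l := by nlinarith
        omega
      · have : n = k * l := le_antisymm hge hkn
        rcases Nat.lt_or_ge k 3 with hk3 | hk3
        · obtain rfl : k = 2 := by omega
          omega
        · rcases Nat.lt_or_ge l 3 with hl3 | hl3
          · obtain rfl : l = 2 := by omega
            omega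
          · nlinarith
    rw [altBound_of_good hgood, Nat.le_div_iff_mul_le (by norm_num)]
    calc Nat.card N * 2 ≤ nilBound k * nilBound l * nilBound 2 :=
          Nat.mul_le_mul hle (by norm_num [nilBound, vTwo_vals.1])
      _ ≤ nilBound (k + l) * nilBound 2 := Nat.mul_le_mul_right _ (nilBound_add k l)
      _ ≤ nilBound n := (nilBound_add _ _).trans (nilBound_mono hsum)
  · classical
    let s := MulAction.orbit N a
    have hinv : ∀ g ∈ N, ∀ x, g x ∈ s ↔ x ∈ s := fun g hg x =>
      smul_mem_orbit (⟨g, hg⟩ : N) a x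
    have hinv' : ∀ g ∈ N, ∀ x, g x ∈ sᶜ ↔ x ∈ sᶜ := fun g hg x => not_congr (hinv g hg x)
    have hs : s ≠ Set.univ := fun h => htr ⟨fun x y => by
      obtain ⟨g, hg⟩ : x ∈ s := h ▸ Set.mem_univ x
      obtain ⟨g', hg'⟩ : y ∈ s := h ▸ Set.mem_univ y
      exact ⟨g' * g⁻¹, by simp only at hg hg'; rw [← hg, ← hg', mul_smul, inv_smul_smul]⟩⟩
    have hsum : Nat.card s + Nat.card (sᶜ : Set α) = n := by
      rw [Nat.card_coe_set_eq, Nat.card_coe_set_eq, Set.ncard_add_ncard_compl, hn]
    haveI : Nonempty s := ⟨⟨a, MulAction.mem_orbit_self a⟩⟩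
    haveI : Nonempty (sᶜ : Set α) := (Set.nonempty_compl.mpr hs).to_subtype
    have hs0 : 0 < Nat.card s := Nat.card_pos
    have hs0' : 0 < Nat.card (sᶜ : Set α) := Nat.card_pos
    set r₁ := resHom N s hinv with hr₁
    set r₂ := resHom N sᶜ hinv' with hr₂
    let M := r₁.range.prod r₂.range
    let σ : M →* ℤˣ := MonoidHom.mk' (fun g => Perm.sign (g : Perm s × Perm (sᶜ : Set α)).1 *
      Perm.sign (g : Perm s × Perm (sᶜ : Set α)).2) fun g h => by
        simp only [Subgroup.coe_mul, Prod.fst_mul, Prod.snd_mul, map_mul]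
        exact mul_mul_mul_comm _ _ _ _
    let f : N →* M := (r₁.prod r₂).codRestrict M fun g => ⟨⟨g, rfl⟩, ⟨g, rfl⟩⟩
    have hf : Function.Injective f := fun g g' h => Subtype.ext (Equiv.ext fun x => by
      have h' := congrArg Subtype.val h
      by_cases hx : x ∈ s
      · exact congrArg Subtype.val (Equiv.congr_fun (congrArg Prod.fst h') ⟨x, hx⟩)
      · exact congrArg Subtype.val (Equiv.congr_fun (congrArg Prod.snd h') ⟨x, hx⟩))
    have hfker : f.range ≤ σ.ker := by
      rintro _ ⟨g, rfl⟩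
      have hsplit : (g : Perm α) = Perm.ofSubtype (r₁ g) * Perm.ofSubtype (r₂ g) := by
        ext x
        rw [Perm.mul_apply]
        by_cases hx : x ∈ s
        · rw [Perm.ofSubtype_apply_of_not_mem (p := (· ∈ sᶜ)) (r₂ g) (not_not.mpr hx),
            Perm.ofSubtype_apply_of_mem (p := (· ∈ s)) (r₁ g) hx]
          rfl
        · have hgx : (g : Perm α) x ∉ s := fun h => hx ((hinv g g.2 x).mp h)
          rw [Perm.ofSubtype_apply_of_mem (p := (· ∈ sᶜ)) (r₂ g) hx]
          exact (Perm.ofSubtype_apply_of_not_mem (p := (· ∈ s)) (r₁ g) hgx).symm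
      have := Perm.mem_alternatingGroup.mp (hA g.2)
      rw [hsplit, map_mul, Perm.sign_ofSubtype, Perm.sign_ofSubtype] at this
      exact this
    have hMc : Nat.card M = Nat.card r₁.range * Nat.card r₂.range :=
      (Nat.card_congr (Subgroup.prodEquiv _ _).toEquiv).trans (Nat.card_prod _ _)
    by_cases hσ : σ.ker = ⊤
    · have h1 : r₁.range ≤ alternatingGroup s := fun x hx => Perm.mem_alternatingGroup.mpr (by
        have : (⟨(x, 1), hx, one_mem _⟩ : M) ∈ σ.ker := hσ ▸ Subgroup.mem_top _
        simpa [σ] using this)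
      have h2 : r₂.range ≤ alternatingGroup (sᶜ : Set α) := fun x hx =>
        Perm.mem_alternatingGroup.mpr (by
          have : (⟨(1, x), one_mem _, hx⟩ : M) ∈ σ.ker := hσ ▸ Subgroup.mem_top _
          simpa [σ] using this)
      have b1 := IH (Nat.card s) (by omega) s r₁.range rfl
        (Group.nilpotent_of_surjective _ r₁.rangeRestrict_surjective) h1
      have b2 := IH (Nat.card (sᶜ : Set α)) (by omega) (sᶜ : Set α) r₂.range rfl
        (Group.nilpotent_of_surjective _ r₂.rangeRestrict_surjective) h2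
      calc Nat.card N ≤ Nat.card M := Nat.card_le_card_of_injective f hf
        _ ≤ altBound (Nat.card s) * altBound (Nat.card (sᶜ : Set α)) := hMc ▸ Nat.mul_le_mul b1 b2
        _ ≤ altBound n := hsum ▸ altBound_mul hs0 hs0'
    · have b1 := card_le_of_resHom hN hinv rfl fun β _ X hβ hX => card_le_nilBound _ β X hβ hX
      have b2 := card_le_of_resHom hN hinv' rfl fun β _ X hβ hX => card_le_nilBound _ β X hβ hX
      refine le_trans ?_ (half_le_altBound n)
      rw [Nat.le_div_iff_mul_le (by norm_num)]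
      calc Nat.card N * 2 = 2 * Nat.card f.range := by
            rw [mul_comm, Nat.card_congr (MonoidHom.ofInjective hf).toEquiv]
        _ ≤ 2 * Nat.card σ.ker := Nat.mul_le_mul_left 2 (Subgroup.card_le_of_le hfker)
        _ ≤ Nat.card M := two_mul_card_le_of_lt hσ
        _ ≤ nilBound (Nat.card s) * nilBound (Nat.card (sᶜ : Set α)) :=
            hMc ▸ Nat.mul_le_mul b1 b2
        _ ≤ nilBound n := (nilBound_add _ _).trans_eq (by rw [hsum])

variable {α : Type*} [Fintype α] [DecidableEq α]

theorem card_sylow_alternating [Nontrivial α] (P : Sylow 2 (alternatingGroup α)) :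
    2 * Nat.card P = 2 ^ vTwo (Nat.card α) := by
  haveI : Fact (Nat.Prime 2) := ⟨Nat.prime_two⟩
  have h := two_mul_nat_card_alternatingGroup (α := α)
  rw [Nat.card_perm] at h
  rw [vTwo, ← h, padicValNat.mul (by norm_num) Nat.card_pos.ne', padicValNat.self (by norm_num),
    P.card_eq_multiplicity, Nat.factorization_def _ Nat.prime_two, pow_add, pow_one]

theorem exists_conj_alt_of_max {n w : ℕ} (hn : Fintype.card α = n) (h3 : n % 4 = 3)
    (h7 : 7 ≤ n) (hw : w + 1 = vTwo (n - 3))
    (N₁ N₂ : Subgroup (Perm α)) (hA₁ : N₁ ≤ alternatingGroup α) (hA₂ : N₂ ≤ alternatingGroup α)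
    (hN₁ : Group.IsNilpotent N₁) (hN₂ : Group.IsNilpotent N₂)
    (hc₁ : Nat.card N₁ = 3 * 2 ^ w) (hc₂ : Nat.card N₂ = 3 * 2 ^ w) :
    ∃ g ∈ alternatingGroup α, N₂ = N₁.map (MulAut.conj g).toMonoidHom := by
  haveI : Fact (Nat.Prime 2) := ⟨Nat.prime_two⟩
  have hw' : vTwo (n - 4) < w := by have := vTwo_lt_succ h3 h7; omega
  haveI : Nontrivial α := Fintype.one_lt_card_iff_nontrivial.mp (by omega)
  obtain ⟨x₁, Q₁, hx₁, hQ₁, hq₁, rfl⟩ := exists_shape hn hw' N₁ hN₁ hc₁
  obtain ⟨x₂, Q₂, hx₂, hQ₂, hq₂, rfl⟩ := exists_shape hn hw' N₂ hN₂ hc₂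
  obtain ⟨g₀, hg₀⟩ := isConj_iff.mp (Perm.isConj_iff_cycleType_eq.mpr (hx₁.trans hx₂.symm))
  obtain ⟨u, v, huv, hu, hv⟩ : ∃ u v, u ≠ v ∧ u ∉ x₂.support ∧ v ∉ x₂.support := by
    have hs : x₂.support.card = 3 := by rw [← Perm.sum_cycleType, hx₂, Multiset.sum_singleton]
    have : 1 < x₂.supportᶜ.card := by rw [Finset.card_compl, hs, hn]; omega
    obtain ⟨u, hu, v, hv, huv⟩ := Finset.one_lt_card.mp this
    exact ⟨u, v, huv, Finset.mem_compl.mp hu, Finset.mem_compl.mp hv⟩
  have hswap : swap u v ∈ offSupport x₂ := fun a ha =>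
    swap_apply_of_ne_of_ne (by rintro rfl; exact hu ha) (by rintro rfl; exact hv ha)
  obtain ⟨g, hgA, hg⟩ : ∃ g ∈ alternatingGroup α, g * x₁ * g⁻¹ = x₂ := by
    rcases Int.units_eq_one_or (Perm.sign g₀) with h | h
    · exact ⟨g₀, Perm.mem_alternatingGroup.mpr h, hg₀⟩
    · refine ⟨swap u v * g₀, Perm.mem_alternatingGroup.mpr
        (by rw [map_mul, Perm.sign_swap huv, h]; rfl), ?_⟩
      have hcm := (commute_of_mem_offSupport hswap).eq
      calc swap u v * g₀ * x₁ * (swap u v * g₀)⁻¹
          = swap u v * (g₀ * x₁ * g₀⁻¹) * (swap u v)⁻¹ := by group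
        _ = x₂ := by rw [hg₀, hcm, mul_inv_cancel_right]
  set R := Q₁.map (MulAut.conj g).toMonoidHom with hR
  have hRc : Nat.card R = 2 ^ w :=
    (Subgroup.card_map_of_injective (MulAut.conj g).injective).trans hq₁
  set K := offSupport x₂ ⊓ alternatingGroup α with hK'
  have hRle : R ≤ K := by
    refine le_inf ?_ ?_
    · rintro _ ⟨q, hq, rfl⟩ a ha
      rw [← hg, Perm.support_conj] at ha
      obtain ⟨b, hb, rfl⟩ := Finset.mem_map.mp ha
      simp [hQ₁ hq b hb]
    · rintro _ ⟨q, hq, rfl⟩
      exact Subgroup.Normal.conj_mem inferInstance q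
        (hA₁ (Subgroup.mem_sup_right hq)) g
  have hQ₂le : Q₂ ≤ K := le_inf hQ₂ (fun q hq => hA₂ (Subgroup.mem_sup_right hq))
  have hK : ∀ S : Sylow 2 K, Nat.card S ≤ 2 ^ w := by
    intro S
    obtain ⟨k, hk⟩ := IsPGroup.iff_card.mp S.isPGroup'
    have h1 : Nat.card S ∣ Nat.card K := Subgroup.card_subgroup_dvd_card _
    have h2 : K.relIndex (offSupport x₂) = 2 := by
      have hd : K.relIndex (offSupport x₂) ∣ 2 := by
        rw [hK', Subgroup.inf_relIndex_left, ← alternatingGroup.index_eq_two (α := α)]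
        exact Subgroup.relIndex_dvd_index_of_normal (alternatingGroup α) (offSupport x₂)
      rcases (Nat.dvd_prime Nat.prime_two).mp hd with h | h
      · exfalso
        have := (Subgroup.relIndex_eq_one.mp h hswap).2
        replace this : Perm.sign (swap u v) = 1 := Perm.mem_alternatingGroup.mp this
        rw [Perm.sign_swap huv] at this
        exact absurd this (by decide)
      · exact h
    have h3' : 2 ^ (k + 1) ∣ Nat.card (Subgroup.centralizer {x₂}) := by
      rw [pow_succ]
      calc 2 ^ k * 2 ∣ Nat.card K * K.relIndex (offSupport x₂) :=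
            Nat.mul_dvd_mul (hk ▸ h1) (h2 ▸ dvd_rfl)
        _ = Nat.card (offSupport x₂) := by
            rw [← Subgroup.card_mul_index (K.subgroupOf (offSupport x₂)),
              Nat.card_congr (Subgroup.subgroupOfEquivOfLe inf_le_left).toEquiv]
            rfl
        _ ∣ _ := Subgroup.card_dvd_of_le fun q hq => Subgroup.mem_centralizer_singleton_iff.mpr
            (commute_of_mem_offSupport hq).eq
    rw [Perm.nat_card_centralizer, hx₂, Multiset.sum_singleton, Multiset.prod_singleton,
      Multiset.toFinset_singleton, Finset.prod_singleton, Multiset.count_singleton_self,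
      Nat.factorial_one, mul_one, hn] at h3'
    have := le_vTwo (Nat.Coprime.dvd_of_dvd_mul_right
      (((Nat.coprime_primes Nat.prime_two Nat.prime_three).mpr (by norm_num)).pow_left _) h3')
    rw [hk]
    exact Nat.pow_le_pow_right (by norm_num) (by omega)
  have mk : ∀ Q : Subgroup (Perm α), Q ≤ K → Nat.card Q = 2 ^ w →
      ∃ S : Sylow 2 K, (S : Subgroup K) = Q.subgroupOf K := by
    intro Q hQ hc
    have hc' : Nat.card (Q.subgroupOf K) = 2 ^ w :=
      (Nat.card_congr (Subgroup.subgroupOfEquivOfLe hQ).toEquiv).trans hc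
    obtain ⟨S, hS⟩ := (IsPGroup.of_card hc' : IsPGroup 2 _).exists_le_sylow
    exact ⟨S, (Subgroup.eq_of_le_of_card_ge hS (hc' ▸ hK S)).symm⟩
  obtain ⟨S₁, hS₁⟩ := mk R hRle hRc
  obtain ⟨S₂, hS₂⟩ := mk Q₂ hQ₂le hq₂
  obtain ⟨k, hk⟩ := MulAction.exists_smul_eq K S₁ S₂
  refine ⟨(k : Perm α) * g, mul_mem k.2.2 hgA, ?_⟩
  have hQ : R.map (MulAut.conj (k : Perm α)).toMonoidHom = Q₂ := by
    have h : MulAut.conj k • (S₁ : Subgroup K) = S₂ := congrArg Sylow.toSubgroup hk
    rw [hS₁, hS₂, Subgroup.pointwise_smul_def] at h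
    have h' := congrArg (Subgroup.map K.subtype) h
    rw [Subgroup.subgroupOf_map_subtype, inf_of_le_left hQ₂le] at h'
    rw [← h']
    nth_rw 1 [show R = (R.subgroupOf K).map K.subtype by
      rw [Subgroup.subgroupOf_map_subtype, inf_of_le_left hRle]]
    rw [Subgroup.map_map]
    exact (Subgroup.map_map (R.subgroupOf K) K.subtype (MulAut.conj k).toMonoidHom).symm
  have hkx : (k : Perm α) * x₂ * (k : Perm α)⁻¹ = x₂ := by
    rw [(commute_of_mem_offSupport k.2.1).eq, mul_inv_cancel_right]
  rw [show (MulAut.conj ((k : Perm α) * g)).toMonoidHom =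
      (MulAut.conj (k : Perm α)).toMonoidHom.comp (MulAut.conj g).toMonoidHom from
        MonoidHom.ext fun z => by simp [mul_assoc],
    ← Subgroup.map_map, Subgroup.map_sup, Subgroup.map_sup, MonoidHom.map_zpowers,
    MonoidHom.map_zpowers, ← hR, hQ]
  simp only [MulEquiv.coe_toMonoidHom, MulAut.conj_apply, hg, hkx]

end Cfsg.Agent.Lib46.NilPerm
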