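import Mathlib.NumberTheory.Padics.PadicVal.Basic
import Mathlib.Tactic

/-!
The largest order of a nilpotent subgroup of a symmetric group.
-/

set_option autoImplicit false
set_option linter.unusedSectionVars false
set_option linter.style.haveILetI false

namespace Cfsg.Agent.Lib46.NilPerm

open Equiv

/-- Exponent of `2` in `n!`. -/
noncomputable def vTwo (n : ℕ) : ℕ := padicValNat 2 n.factorial

/-- The extremal order. -/
noncomputable def nilBound (n : ℕ) : ℕ :=
  (if n % 4 = 3 then 3 else if n % 4 = 2 then 2 else 1) * 2 ^ vTwo (4 * (n / 4))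

theorem le_vTwo {n k : ℕ} (h : 2 ^ k ∣ n.factorial) : k ≤ vTwo n :=
  (padicValNat_dvd_iff_le n.factorial_ne_zero).mp h

theorem vTwo_add (a b : ℕ) : vTwo a + vTwo b ≤ vTwo (a + b) := by
  refine le_vTwo ?_
  rw [pow_add]
  exact (Nat.mul_dvd_mul pow_padicValNat_dvd pow_padicValNat_dvd).trans
    (Nat.factorial_mul_factorial_dvd_factorial_add a b)

theorem vTwo_succ (n : ℕ) : vTwo (n + 1) = padicValNat 2 (n + 1) + vTwo n := by
  rw [vTwo, Nat.factorial_succ, padicValNat.mul (Nat.succ_ne_zero n) n.factorial_ne_zero, vTwo]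

theorem vTwo_rest (k : ℕ) : vTwo (4 * k + 1) = vTwo (4 * k) ∧
    vTwo (4 * k + 2) = vTwo (4 * k) + 1 ∧ vTwo (4 * k + 3) = vTwo (4 * k) + 1 := by
  have h1 : vTwo (4 * k + 1) = vTwo (4 * k) := by
    rw [vTwo_succ, padicValNat.eq_zero_of_not_dvd (by omega), zero_add]
  have h2 : vTwo (4 * k + 2) = vTwo (4 * k) + 1 := by
    rw [show 4 * k + 2 = 4 * k + 1 + 1 from rfl, vTwo_succ, h1,
      show 4 * k + 1 + 1 = 2 * (2 * k + 1) by ring, padicValNat.mul (by norm_num) (by omega),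
      padicValNat.self (by norm_num), padicValNat.eq_zero_of_not_dvd (n := 2 * k + 1) (by omega)]
    omega
  refine ⟨h1, h2, ?_⟩
  rw [show 4 * k + 3 = 4 * k + 2 + 1 from rfl, vTwo_succ, h2,
    padicValNat.eq_zero_of_not_dvd (by omega), zero_add]

theorem vTwo_four : 3 ≤ vTwo 4 := le_vTwo (by decide)

theorem two_pow_vTwo_le (n : ℕ) : 2 ^ vTwo n ≤ nilBound n := by
  obtain ⟨h1, h2, h3⟩ := vTwo_rest (n / 4)
  have hn := (Nat.div_add_mod n 4).symm
  have : n % 4 < 4 := Nat.mod_lt _ (by norm_num)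
  interval_cases hr : n % 4 <;> rw [nilBound, hr] <;> norm_num
  · rw [add_zero] at hn; rw [← hn]
  · rw [← hn] at h1; rw [h1]
  · rw [← hn] at h2; rw [h2, pow_succ']
  · rw [← hn] at h3; rw [h3, pow_succ']; omega

theorem nilBound_eq_of_ne {n : ℕ} (h : n % 4 ≠ 3) : nilBound n = 2 ^ vTwo n := by
  obtain ⟨h1, h2, -⟩ := vTwo_rest (n / 4)
  have hn := (Nat.div_add_mod n 4).symm
  have : n % 4 < 4 := Nat.mod_lt _ (by norm_num)
  interval_cases hr : n % 4 <;> rw [nilBound, hr] <;> norm_num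
  · rw [add_zero] at hn; rw [← hn]
  · rw [← hn] at h1; rw [h1]
  · rw [← hn] at h2; rw [h2, pow_succ']
  · exact absurd rfl h

theorem nilBound_eq_of_eq {n : ℕ} (h : n % 4 = 3) : nilBound n = 3 * 2 ^ vTwo (n - 3) := by
  rw [nilBound, if_pos h, show 4 * (n / 4) = n - 3 by omega]

theorem nilBound_pos (n : ℕ) : 0 < nilBound n :=
  lt_of_lt_of_le (by positivity) (two_pow_vTwo_le n)

theorem nilBound_add (a b : ℕ) : nilBound a * nilBound b ≤ nilBound (a + b) := by
  have hj := Nat.mod_lt a (show 4 > 0 by norm_num)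
  have hk := Nat.mod_lt b (show 4 > 0 by norm_num)
  have hA : 2 ^ vTwo (4 * (a / 4)) * 2 ^ vTwo (4 * (b / 4)) ≤ 2 ^ vTwo (4 * (a / 4 + b / 4)) := by
    rw [← pow_add, mul_add]
    exact Nat.pow_le_pow_right (by norm_num) (vTwo_add _ _)
  have hB : 2 ^ vTwo (4 * (a / 4)) * 2 ^ vTwo (4 * (b / 4)) * 8 ≤
      2 ^ vTwo (4 * (a / 4 + b / 4 + 1)) := by
    rw [show (8 : ℕ) = 2 ^ 3 from rfl, ← pow_add, ← pow_add, mul_add, mul_add]
    refine Nat.pow_le_pow_right (by norm_num) ?_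
    have h1 := vTwo_add (4 * (a / 4)) (4 * (b / 4))
    have h2 := vTwo_add (4 * (a / 4) + 4 * (b / 4)) (4 * 1)
    have h3 := vTwo_four
    simp only [mul_one] at h2 ⊢
    omega
  by_cases hs : a % 4 + b % 4 < 4
  · have e1 : (a + b) % 4 = a % 4 + b % 4 := by omega
    have e2 : (a + b) / 4 = a / 4 + b / 4 := by omega
    simp only [nilBound, e1, e2]
    interval_cases a % 4 <;> interval_cases b % 4 <;> first
      | (exfalso; omega)
      | (norm_num; linarith [Nat.zero_le (2 ^ vTwo (4 * (a / 4)) * 2 ^ vTwo (4 * (b / 4)))])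
  · have e1 : (a + b) % 4 = a % 4 + b % 4 - 4 := by omega
    have e2 : (a + b) / 4 = a / 4 + b / 4 + 1 := by omega
    simp only [nilBound, e1, e2]
    interval_cases a % 4 <;> interval_cases b % 4 <;> first
      | (exfalso; omega)
      | (norm_num; linarith [Nat.zero_le (2 ^ vTwo (4 * (a / 4)) * 2 ^ vTwo (4 * (b / 4)))])

theorem nilBound_mono {a b : ℕ} (h : a ≤ b) : nilBound a ≤ nilBound b := by
  obtain ⟨c, rfl⟩ := Nat.exists_eq_add_of_le h
  exact (Nat.le_mul_of_pos_right _ (nilBound_pos c)).trans (nilBound_add a c)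

theorem pow_le_nilBound_pow : ∀ n : ℕ, 8 ≤ n → 2 ^ (4 * (n - 1)) ≤ nilBound n ^ 5 := by
  intro n
  induction n using Nat.strong_induction_on with
  | _ n IH =>
  intro hn
  have h8 : 7 ≤ vTwo 8 := le_vTwo (by decide)
  by_cases h16 : 16 ≤ n
  · obtain ⟨m, rfl⟩ := Nat.exists_eq_add_of_le (show 8 ≤ n by omega)
    have h1 := IH m (by omega) (by omega)
    have h2 : 2 ^ 7 ≤ nilBound 8 :=
      (Nat.pow_le_pow_right (by norm_num) h8).trans (two_pow_vTwo_le 8)
    calc 2 ^ (4 * (8 + m - 1)) = (2 : ℕ) ^ (32 + 4 * (m - 1)) := by congr 1; omega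
      _ = 2 ^ 32 * 2 ^ (4 * (m - 1)) := pow_add _ _ _
      _ ≤ nilBound 8 ^ 5 * nilBound m ^ 5 := Nat.mul_le_mul
          (le_trans (by norm_num) (Nat.pow_le_pow_left h2 5)) h1
      _ ≤ nilBound (8 + m) ^ 5 := by
          rw [← mul_pow]; exact Nat.pow_le_pow_left (nilBound_add 8 m) 5
  · have h12 : 10 ≤ vTwo 12 := le_vTwo (by decide)
    have key : ∀ c w, 2 ^ (4 * (n - 1)) ≤ (c * 2 ^ w) ^ 5 → c * 2 ^ w ≤ nilBound n →
        2 ^ (4 * (n - 1)) ≤ nilBound n ^ 5 := fun c w h1 h2 =>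
      h1.trans (Nat.pow_le_pow_left h2 5)
    have hp7 : 2 ^ 7 ≤ 2 ^ vTwo 8 := Nat.pow_le_pow_right (by norm_num) h8
    have hp10 : 2 ^ 10 ≤ 2 ^ vTwo 12 := Nat.pow_le_pow_right (by norm_num) h12
    interval_cases n
    · exact key 1 7 (by norm_num) (by norm_num [nilBound]; exact hp7)
    · exact key 1 7 (by norm_num) (by norm_num [nilBound]; exact hp7)
    · exact key 2 7 (by norm_num) (by norm_num [nilBound]; omega)
    · exact key 3 7 (by norm_num) (by norm_num [nilBound]; omega)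
    · exact key 1 10 (by norm_num) (by norm_num [nilBound]; exact hp10)
    · exact key 1 10 (by norm_num) (by norm_num [nilBound]; exact hp10)
    · exact key 2 10 (by norm_num) (by norm_num [nilBound]; omega)
    · exact key 3 10 (by norm_num) (by norm_num [nilBound]; omega)

theorem five_le_four {p : ℕ} (hp : 3 ≤ p) : p ^ 5 ≤ 2 ^ (4 * (p - 1)) := by
  induction p, hp using Nat.le_induction with
  | base => norm_num
  | succ p hp ih =>
    have h1 : 3 * (p + 1) ≤ 4 * p := by omega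
    have h2 := Nat.pow_le_pow_left h1 5
    rw [mul_pow, mul_pow] at h2
    have h3 : (p + 1) ^ 5 ≤ 16 * p ^ 5 := by nlinarith [Nat.zero_le (p ^ 5)]
    calc (p + 1) ^ 5 ≤ 16 * p ^ 5 := h3
      _ ≤ 2 ^ 4 * 2 ^ (4 * (p - 1)) := Nat.mul_le_mul_left 16 ih
      _ = 2 ^ (4 * (p + 1 - 1)) := by rw [← pow_add]; congr 1; omega

/-- A prime power dividing `n!` is at most the bound. -/
theorem prime_pow_le_nilBound {p e n : ℕ} (hp : p.Prime) (h : p ^ e ∣ n.factorial) :
    p ^ e ≤ nilBound n := by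
  haveI := Fact.mk hp
  have he : e ≤ padicValNat p n.factorial := (padicValNat_dvd_iff_le n.factorial_ne_zero).mp h
  by_cases hp2 : p = 2
  · subst hp2
    exact (Nat.pow_le_pow_right (by norm_num) he).trans (two_pow_vTwo_le n)
  have hp3 : 3 ≤ p := by have := hp.two_le; omega
  rcases Nat.eq_zero_or_pos e with rfl | he0
  · simpa [Nat.one_le_iff_ne_zero] using (nilBound_pos n).ne'
  have hbd : (p - 1) * e ≤ n - 1 := by
    rcases Nat.eq_zero_or_pos n with rfl | hn
    · simp at he; omega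
    have := sub_one_mul_padicValNat_factorial_lt_of_ne_zero (p := p) hn.ne'
    have := Nat.mul_le_mul_left (p - 1) he
    omega
  by_cases hn : 8 ≤ n
  · refine (Nat.pow_le_pow_iff_left (show (5 : ℕ) ≠ 0 by norm_num)).mp ?_
    calc (p ^ e) ^ 5 = (p ^ 5) ^ e := pow_right_comm _ _ _
      _ ≤ (2 ^ (4 * (p - 1))) ^ e := Nat.pow_le_pow_left (five_le_four hp3) e
      _ ≤ 2 ^ (4 * (n - 1)) := by
        rw [← pow_mul, mul_assoc]
        exact Nat.pow_le_pow_right (by norm_num) (Nat.mul_le_mul_left 4 hbd)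
      _ ≤ nilBound n ^ 5 := pow_le_nilBound_pow n hn
  · have hn7 : n < 8 := by omega
    have hp8 : p < 8 := by
      have := Nat.le_mul_of_pos_right (p - 1) he0
      omega
    have he4 : e < 4 := by
      have : 2 * e ≤ (p - 1) * e := Nat.mul_le_mul_right e (by omega)
      omega
    have table : ∀ (n p : Fin 8) (e : Fin 4), 3 ≤ (p : ℕ) → (p : ℕ) ≠ 4 → (p : ℕ) ≠ 6 →
        (p : ℕ) ^ (e : ℕ) ∣ Nat.factorial (n : ℕ) →
          (p : ℕ) ^ (e : ℕ) ≤ [1, 1, 2, 3, 8, 8, 16, 24].getD (n : ℕ) 0 := by decide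
    refine (table ⟨n, hn7⟩ ⟨p, hp8⟩ ⟨e, he4⟩ hp3 (by rintro rfl; norm_num at hp)
      (by rintro rfl; norm_num at hp) h).trans ?_
    have h8 : 2 ^ 3 ≤ 2 ^ vTwo 4 := Nat.pow_le_pow_right (by norm_num) vTwo_four
    have h0 : 1 ≤ 2 ^ vTwo 0 := Nat.one_le_two_pow
    interval_cases n <;> norm_num [nilBound] <;> omega

end Cfsg.Agent.Lib46.NilPerm
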