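import Cfsg.Agent.Lib46.NilPerm
import Mathlib.GroupTheory.Perm.Centralizer

/-!
Nilpotent subgroups of largest order in a symmetric group of degree `≡ 3 (mod 4)`.
-/

set_option autoImplicit false
set_option linter.unusedSectionVars false
set_option linter.style.haveILetI false

namespace Cfsg.Agent.Lib46.NilPerm

open Equiv
open scoped Pointwise

variable {α : Type*} [Fintype α] [DecidableEq α]

/-- The pointwise stabiliser of the support of `x`. -/
def offSupport (x : Perm α) : Subgroup (Perm α) where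
  carrier := {g | ∀ a ∈ x.support, g a = a}
  one_mem' := fun _ _ => rfl
  mul_mem' := fun {g h} hg hh a ha => by rw [Perm.mul_apply, hh a ha, hg a ha]
  inv_mem' := fun {g} hg a ha => by
    conv_lhs => rw [← hg a ha]
    exact g.symm_apply_apply a

theorem commute_of_mem_offSupport {x g : Perm α} (hg : g ∈ offSupport x) : Commute g x :=
  Perm.Disjoint.commute fun a => by
    by_cases ha : a ∈ x.support
    · exact Or.inl (hg a ha)
    · exact Or.inr (Perm.notMem_support.mp ha)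

theorem exists_small_shape (hn : Fintype.card α = 3) (N : Subgroup (Perm α))
    (hcard : Nat.card N = 3) :
    ∃ (x : Perm α) (Q : Subgroup (Perm α)), x.cycleType = {3} ∧ Q ≤ offSupport x ∧
      Nat.card Q = 2 ^ vTwo (3 - 3) ∧ N = Subgroup.zpowers x ⊔ Q := by
  haveI : Fact (Nat.Prime 3) := ⟨Nat.prime_three⟩
  obtain ⟨y, hy⟩ := exists_prime_orderOf_dvd_card' (G := N) 3 (hcard ▸ dvd_rfl)
  have hox : orderOf (y : Perm α) = 3 := (Subgroup.orderOf_coe y).trans hy
  refine ⟨y, ⊥, ?_, bot_le, by simp [vTwo], ?_⟩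
  · obtain ⟨j, hj⟩ := Perm.cycleType_prime_order (σ := (y : Perm α)) (hox.symm ▸ Nat.prime_three)
    have := (y : Perm α).sum_cycleType_le
    rw [hox] at hj
    rw [hj, Multiset.sum_replicate, hn, smul_eq_mul] at this
    obtain rfl : j = 0 := by omega
    rw [hj]; rfl
  · rw [sup_bot_eq]
    exact (Subgroup.eq_of_le_of_card_ge (Subgroup.zpowers_le.2 y.2)
      (by rw [hcard, Nat.card_zpowers, hox])).symm

theorem exists_shape {n w : ℕ} (hn : Fintype.card α = n) (hw : vTwo (n - 4) < w)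
    (N : Subgroup (Perm α)) (hN : Group.IsNilpotent N)
    (hcard : Nat.card N = 3 * 2 ^ w) :
    ∃ (x : Perm α) (Q : Subgroup (Perm α)), x.cycleType = {3} ∧ Q ≤ offSupport x ∧
      Nat.card Q = 2 ^ w ∧ N = Subgroup.zpowers x ⊔ Q := by
  obtain ⟨P, Q, -, -, hP, hP1, hcop, hcomp, hcomm⟩ :=
    exists_split hN Nat.prime_three (hcard ▸ dvd_mul_right 3 _)
  haveI : Fact (Nat.Prime 3) := ⟨Nat.prime_three⟩
  have hmul : Nat.card Q * Nat.card P = 3 * 2 ^ w := hcomp.card_mul_card.trans hcard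
  obtain ⟨e, he⟩ := IsPGroup.iff_card.mp hP
  have hnot : ¬ 3 ∣ 2 ^ w := fun h =>
    absurd (Nat.prime_three.dvd_of_dvd_pow h) (by norm_num)
  have hP3 : Nat.card P = 3 := by
    have he1 : e ≠ 0 := fun h0 => hP1 (Subgroup.card_eq_one.mp (by rw [he, h0, pow_zero]))
    match e, he1, he with
    | 1, _, he => simpa using he
    | e + 2, _, he =>
      exfalso
      rw [he, pow_add, show Nat.card Q * (3 ^ e * 3 ^ 2) = 3 * (Nat.card Q * 3 ^ e * 3) by ring] at hmul
      exact hnot ⟨_, (Nat.eq_of_mul_eq_mul_left (by norm_num) hmul).symm.trans (mul_comm _ _)⟩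
  have hQc : Nat.card Q = 2 ^ w := by
    rw [hP3, mul_comm] at hmul
    exact Nat.eq_of_mul_eq_mul_left (by norm_num) hmul
  obtain ⟨y, hyP, hy1⟩ := P.bot_or_exists_ne_one.resolve_left hP1
  set x : Perm α := (y : Perm α) with hx
  have hox : orderOf x = 3 := by
    rw [hx, Subgroup.orderOf_coe]
    rcases (Nat.dvd_prime Nat.prime_three).mp (hP3 ▸ Subgroup.orderOf_dvd_natCard P hyP) with h | h
    · exact absurd (orderOf_eq_one_iff.mp h) hy1
    · exact h
  have hcommQ : ∀ q ∈ Q.map N.subtype, Commute x q := by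
    rintro _ ⟨q, hq, rfl⟩
    exact (hcomm y hyP q hq).map N.subtype
  have hQm : Nat.card (Q.map N.subtype) = 2 ^ w := (Subgroup.card_subtype N Q).trans hQc
  obtain ⟨j, hj⟩ := Perm.cycleType_prime_order (σ := x) (hox.symm ▸ Nat.prime_three)
  rw [hox] at hj
  have hsupp : 3 * (j + 1) ≤ n := by
    have := x.sum_cycleType_le
    rw [hj, Multiset.sum_replicate, hn, smul_eq_mul] at this
    omega
  have hdvd : 2 ^ w ∣ (n - 3 * (j + 1)).factorial * (j + 1).factorial := by
    have h1 : Nat.card (Q.map N.subtype) ∣ Nat.card (Subgroup.centralizer {x}) :=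
      Subgroup.card_dvd_of_le fun q hq => Subgroup.mem_centralizer_singleton_iff.mpr
        (hcommQ q hq).eq.symm
    rw [hQm, Perm.nat_card_centralizer, hj, Multiset.sum_replicate, Multiset.prod_replicate,
      Multiset.toFinset_replicate, if_neg (by omega), Finset.prod_singleton,
      Multiset.count_replicate_self, hn, smul_eq_mul, mul_comm (j + 1) 3,
      mul_right_comm] at h1
    exact (Nat.Coprime.dvd_of_dvd_mul_right
      (((Nat.coprime_primes Nat.prime_two Nat.prime_three).mpr (by norm_num)).pow _ _) h1)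
  have hj0 : j = 0 := by
    by_contra hj0
    have h1 : w ≤ vTwo (n - 4) :=
      le_vTwo (((hdvd.trans (Nat.factorial_mul_factorial_dvd_factorial_add _ _))).trans
        (Nat.factorial_dvd_factorial (by omega)))
    omega
  subst hj0
  have hcyc : x.cycleType = {3} := by rw [hj]; rfl
  have hisc : x.IsCycle := Perm.card_cycleType_eq_one.mp (by rw [hcyc]; rfl)
  refine ⟨x, Q.map N.subtype, hcyc, fun q hq a ha => ?_, hQm, ?_⟩
  · have hc := hcommQ q hq
    have hqa : q a ∈ x.support := (Perm.mem_support_iff_of_commute hc.symm a).mpr ha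
    obtain ⟨i, hi⟩ := hisc.exists_pow_eq (Perm.mem_support.mp ha) (Perm.mem_support.mp hqa)
    have hpow : ∀ m : ℕ, (q ^ m) a = (x ^ (i * m)) a := by
      intro m
      induction m with
      | zero => simp
      | succ m ih =>
        have h1 : q * x ^ (i * m) = x ^ (i * m) * q := (hc.symm.pow_right _).eq
        rw [pow_succ', Perm.mul_apply, ih, ← Perm.mul_apply, h1, Perm.mul_apply, ← hi,
          ← Perm.mul_apply, ← pow_add]
        congr 2
    have hord : q ^ 2 ^ w = 1 := by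
      rw [← hQm]
      exact congrArg Subtype.val (pow_card_eq_one' (x := (⟨q, hq⟩ : Q.map N.subtype)))
    have h3i : x ^ (i * 2 ^ w) = 1 :=
      hisc.pow_eq_one_iff.mpr ⟨a, Perm.mem_support.mp ha, by rw [← hpow, hord]; rfl⟩
    have hdiv := orderOf_dvd_of_pow_eq_one h3i
    rw [hox] at hdiv
    obtain ⟨l, rfl⟩ := (Nat.prime_three.dvd_mul.mp hdiv).resolve_right hnot
    rw [← hi, pow_mul, ← hox, pow_orderOf_eq_one, one_pow, Perm.one_apply]
  · refine le_antisymm (fun g hg => ?_) ?_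
    · obtain ⟨⟨q, p⟩, hqp⟩ := hcomp.2 ⟨g, hg⟩
      have hp : (p : N) ∈ Subgroup.zpowers y := by
        have hPy : Subgroup.zpowers y = P := Subgroup.eq_of_le_of_card_ge
          (Subgroup.zpowers_le.2 hyP)
          (by rw [hP3, Nat.card_zpowers, ← Subgroup.orderOf_coe, ← hx, hox])
        exact hPy.symm ▸ p.2
      obtain ⟨z, hz⟩ := Subgroup.mem_zpowers_iff.mp hp
      have hg' : g = (q : N) * ((p : N) : Perm α) := (congrArg Subtype.val hqp).symm
      rw [hg']
      refine mul_mem (Subgroup.mem_sup_right ⟨_, q.2, rfl⟩) (Subgroup.mem_sup_left ⟨z, ?_⟩)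
      rw [← hz]; simp [hx]
    · exact sup_le (Subgroup.zpowers_le.2 y.2) (Subgroup.map_subtype_le _)

theorem vTwo_lt_succ {n : ℕ} (h3 : n % 4 = 3) (h7 : 7 ≤ n) :
    vTwo (n - 4) + 2 ≤ vTwo (n - 3) := by
  haveI : Fact (Nat.Prime 2) := ⟨Nat.prime_two⟩
  have h2 := vTwo_succ (n - 4)
  rw [show n - 4 + 1 = n - 3 by omega] at h2
  have h4 : 2 ≤ padicValNat 2 (n - 3) :=
    (padicValNat_dvd_iff_le (by omega)).mp (show 2 ^ 2 ∣ n - 3 by omega)
  omega

theorem exists_max_shape {n : ℕ} (hn : Fintype.card α = n) (h3 : n % 4 = 3)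
    (N : Subgroup (Perm α)) (hN : Group.IsNilpotent N)
    (hcard : Nat.card N = 3 * 2 ^ vTwo (n - 3)) :
    ∃ (x : Perm α) (Q : Subgroup (Perm α)), x.cycleType = {3} ∧ Q ≤ offSupport x ∧
      Nat.card Q = 2 ^ vTwo (n - 3) ∧ N = Subgroup.zpowers x ⊔ Q := by
  rcases lt_or_ge n 7 with h | h
  · obtain rfl : n = 3 := by omega
    refine exists_small_shape hn N ?_
    rw [hcard]
    simp [vTwo]
  · exact exists_shape hn (by have := vTwo_lt_succ h3 h; omega) N hN hcard

theorem exists_conj_of_max {n : ℕ} (hn : Fintype.card α = n) (h3 : n % 4 = 3)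
    (N₁ N₂ : Subgroup (Perm α)) (hN₁ : Group.IsNilpotent N₁) (hN₂ : Group.IsNilpotent N₂)
    (hc₁ : Nat.card N₁ = 3 * 2 ^ vTwo (n - 3)) (hc₂ : Nat.card N₂ = 3 * 2 ^ vTwo (n - 3)) :
    ∃ g : Perm α, N₂ = N₁.map (MulAut.conj g).toMonoidHom := by
  haveI : Fact (Nat.Prime 2) := ⟨Nat.prime_two⟩
  obtain ⟨x₁, Q₁, hx₁, hQ₁, hq₁, rfl⟩ := exists_max_shape hn h3 N₁ hN₁ hc₁
  obtain ⟨x₂, Q₂, hx₂, hQ₂, hq₂, rfl⟩ := exists_max_shape hn h3 N₂ hN₂ hc₂
  obtain ⟨g, hg⟩ := isConj_iff.mp (Perm.isConj_iff_cycleType_eq.mpr (hx₁.trans hx₂.symm))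
  set R := Q₁.map (MulAut.conj g).toMonoidHom with hR
  have hRc : Nat.card R = 2 ^ vTwo (n - 3) :=
    (Subgroup.card_map_of_injective (MulAut.conj g).injective).trans hq₁
  have hRle : R ≤ offSupport x₂ := by
    rintro _ ⟨q, hq, rfl⟩ a ha
    rw [← hg, Perm.support_conj] at ha
    obtain ⟨b, hb, rfl⟩ := Finset.mem_map.mp ha
    simp [hQ₁ hq b hb]
  have hK : ∀ S : Sylow 2 (offSupport x₂), Nat.card S ≤ 2 ^ vTwo (n - 3) := by
    intro S
    have h1 : Nat.card S ∣ Nat.card (Subgroup.centralizer {x₂}) := by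
      refine (Subgroup.card_subgroup_dvd_card (S : Subgroup (offSupport x₂))).trans
        (Subgroup.card_dvd_of_le fun q hq => Subgroup.mem_centralizer_singleton_iff.mpr
          (commute_of_mem_offSupport hq).eq)
    obtain ⟨k, hk⟩ := IsPGroup.iff_card.mp S.isPGroup'
    rw [Perm.nat_card_centralizer, hx₂, Multiset.sum_singleton, Multiset.prod_singleton,
      Multiset.toFinset_singleton, Finset.prod_singleton, Multiset.count_singleton_self,
      Nat.factorial_one, mul_one, hn] at h1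
    rw [hk] at h1 ⊢
    exact Nat.pow_le_pow_right (by norm_num) (le_vTwo (Nat.Coprime.dvd_of_dvd_mul_right
      (((Nat.coprime_primes Nat.prime_two Nat.prime_three).mpr (by norm_num)).pow_left _) h1))
  have mk : ∀ Q : Subgroup (Perm α), Q ≤ offSupport x₂ → Nat.card Q = 2 ^ vTwo (n - 3) →
      ∃ S : Sylow 2 (offSupport x₂), (S : Subgroup (offSupport x₂)) = Q.subgroupOf (offSupport x₂) := by
    intro Q hQ hc
    have hc' : Nat.card (Q.subgroupOf (offSupport x₂)) = 2 ^ vTwo (n - 3) :=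
      (Nat.card_congr (Subgroup.subgroupOfEquivOfLe hQ).toEquiv).trans hc
    obtain ⟨S, hS⟩ := (IsPGroup.of_card hc' : IsPGroup 2 _).exists_le_sylow
    exact ⟨S, (Subgroup.eq_of_le_of_card_ge hS (hc' ▸ hK S)).symm⟩
  obtain ⟨S₁, hS₁⟩ := mk R hRle hRc
  obtain ⟨S₂, hS₂⟩ := mk Q₂ hQ₂ hq₂
  obtain ⟨k, hk⟩ := MulAction.exists_smul_eq (offSupport x₂) S₁ S₂
  refine ⟨(k : Perm α) * g, ?_⟩
  have hQ : R.map (MulAut.conj (k : Perm α)).toMonoidHom = Q₂ := by
    have h : MulAut.conj k • (S₁ : Subgroup (offSupport x₂)) = S₂ := congrArg Sylow.toSubgroup hk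
    rw [hS₁, hS₂, Subgroup.pointwise_smul_def] at h
    have h' := congrArg (Subgroup.map (offSupport x₂).subtype) h
    rw [Subgroup.subgroupOf_map_subtype, inf_of_le_left hQ₂] at h'
    rw [← h']
    nth_rw 1 [show R = (R.subgroupOf (offSupport x₂)).map (offSupport x₂).subtype by
      rw [Subgroup.subgroupOf_map_subtype, inf_of_le_left hRle]]
    rw [Subgroup.map_map]
    exact (Subgroup.map_map (R.subgroupOf (offSupport x₂)) (offSupport x₂).subtype
      (MulAut.conj k).toMonoidHom).symm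
  have hkx : (k : Perm α) * x₂ * (k : Perm α)⁻¹ = x₂ := by
    rw [(commute_of_mem_offSupport k.2).eq, mul_inv_cancel_right]
  rw [show (MulAut.conj ((k : Perm α) * g)).toMonoidHom =
      (MulAut.conj (k : Perm α)).toMonoidHom.comp (MulAut.conj g).toMonoidHom from
        MonoidHom.ext fun z => by simp [mul_assoc],
    ← Subgroup.map_map, Subgroup.map_sup, Subgroup.map_sup, MonoidHom.map_zpowers,
    MonoidHom.map_zpowers, ← hR, hQ]
  simp only [MulEquiv.coe_toMonoidHom, MulAut.conj_apply, hg, hkx]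

end Cfsg.Agent.Lib46.NilPerm
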