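import Cfsg.Agent.Lib.Coprime.Action
import Cfsg.Agent.Lib.Coprime.Hall
import Cfsg.Agent.Lib.PGroup.Basic
import Cfsg.Agent.LocalEven62.Frattini

/-!
An element of odd order acting on a `2`-group and normalising all subgroups of one order.
-/

set_option autoImplicit false
set_option linter.style.haveILetI false
set_option linter.unusedSectionVars false

namespace Cfsg.Agent.Lib46

open Subgroup
open Cfsg.Agent.Coprime (conj_mem_of_mem_normalizer conj_mem_of_mem_normalizer')

variable {G : Type*} [Group G]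

theorem fixed_of_displacement {a x c : G} {j : ℕ} (ha : Odd (orderOf a))
    (hc : a * x * a⁻¹ = x * c) (hac : Commute a c) (hj : c ^ (2 ^ j) = 1) : Commute a x := by
  have hk : ∀ k : ℕ, a ^ k * x * (a ^ k)⁻¹ = x * c ^ k := by
    intro k
    induction k with
    | zero => simp
    | succ k ih =>
      calc a ^ (k + 1) * x * (a ^ (k + 1))⁻¹ = a * (a ^ k * x * (a ^ k)⁻¹) * a⁻¹ := by group
        _ = a * (x * c ^ k) * a⁻¹ := by rw [ih]
        _ = a * x * a⁻¹ * (a * c ^ k * a⁻¹) := by group
        _ = x * c * c ^ k := by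
          rw [hc, (hac.pow_right k).eq, mul_inv_cancel_right]
        _ = x * c ^ (k + 1) := by rw [pow_succ', mul_assoc]
  have h1 : c ^ orderOf a = 1 := by
    have := hk (orderOf a)
    rw [pow_orderOf_eq_one, inv_one, one_mul, mul_one] at this
    exact mul_left_cancel (this.symm.trans (mul_one x).symm)
  have hc1 : c = 1 := by
    rw [← orderOf_eq_one_iff, ← Nat.dvd_one,
      ← ((Nat.coprime_two_right.mpr ha).pow_right j).gcd_eq_one]
    exact Nat.dvd_gcd (orderOf_dvd_of_pow_eq_one h1) (orderOf_dvd_of_pow_eq_one hj)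
  rw [hc1, mul_one] at hc
  exact mul_inv_eq_iff_eq_mul.mp hc

theorem commute_of_normalizes_zpowers {a : G} (ha : Odd (orderOf a)) :
    ∀ (n : ℕ) (x : G), x ^ (2 ^ n) = 1 → a * x * a⁻¹ ∈ zpowers x → Commute a x := by
  intro n
  induction n with
  | zero => intro x hx _; simp only [pow_zero, pow_one] at hx; rw [hx]; exact Commute.one_right a
  | succ n ih =>
    intro x hx hmem
    obtain ⟨i, hi⟩ := mem_zpowers_iff.mp hmem
    have h2 : Commute a (x ^ 2) := ih (x ^ 2) (by rw [← pow_mul, ← pow_succ']; exact hx)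
      ⟨i, by simp only; rw [← conj_pow, ← hi, ← zpow_natCast, ← zpow_natCast, ← zpow_mul,
          ← zpow_mul, mul_comm]⟩
    rcases Int.even_or_odd i with ⟨k, hk⟩ | ⟨k, hk⟩
    · have hz : Commute a (x ^ i) := by
        rw [hk, ← two_mul, zpow_mul, zpow_two, ← pow_two]; exact h2.zpow_right k
      have : a * x * a⁻¹ = x := by
        rw [hi] at hz
        have := hz.eq
        calc a * x * a⁻¹ = a⁻¹ * (a * (a * x * a⁻¹)) := by group
          _ = a⁻¹ * (a * x * a⁻¹ * a) := by rw [this]
          _ = x := by group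
      exact mul_inv_eq_iff_eq_mul.mp this
    · refine fixed_of_displacement (c := (x ^ 2) ^ k) (j := n) ha ?_ (h2.zpow_right k) ?_
      · rw [← hi, hk, zpow_add_one, zpow_mul, zpow_two, ← pow_two]
        exact ((Commute.pow_self x 2).zpow_left k).eq
      · rw [← zpow_natCast ((x ^ 2) ^ k) (2 ^ n), ← zpow_mul, mul_comm, zpow_mul, zpow_natCast,
          ← pow_mul, ← pow_succ', hx, one_zpow]

variable [Finite G]

theorem mem_norm {a : G} {H : Subgroup G} (h : ∀ x ∈ H, a * x * a⁻¹ ∈ H) :
    a ∈ normalizer (H : Set G) :=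
  mem_normalizer_fintype h

theorem exists_pow_two {P : Subgroup G} (hP : IsPGroup 2 P) {x : G} (hx : x ∈ P) :
    ∃ j : ℕ, x ^ (2 ^ j) = 1 := by
  obtain ⟨j, hj⟩ := hP ⟨x, hx⟩
  exact ⟨j, congrArg Subtype.val hj⟩

theorem frattini_map_lt {P : Subgroup G} (hP : P ≠ ⊥) : (frattini P).map P.subtype < P := by
  refine lt_of_le_of_ne (map_subtype_le _) fun h => hP ?_
  have h1 : frattini P = ⊤ := map_injective P.subtype_injective
    (h.trans (by rw [← MonoidHom.range_eq_map, range_subtype]))
  have h2 : (⊥ : Subgroup P) = ⊤ := frattini_nongenerating (by rw [h1, sup_top_eq])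
  refine (eq_bot_iff_forall _).2 fun x hx => ?_
  have h3 : (⟨x, hx⟩ : P) ∈ (⊥ : Subgroup P) := h2 ▸ mem_top _
  exact congrArg Subtype.val (mem_bot.mp h3)

theorem card_lt_of_lt {H K : Subgroup G} (h : H < K) : Nat.card H < Nat.card K :=
  lt_of_not_ge fun h' => h.ne (eq_of_le_of_card_ge h.le h')

/-- An element of odd order fixing the elements of exponent `4` centralises the `2`-group. -/
theorem centralizes_of_four {a : G} (ha : Odd (orderOf a)) :
    ∀ (n : ℕ) (P : Subgroup G), Nat.card P = n → IsPGroup 2 P → a ∈ normalizer (P : Set G) →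
      (∀ x ∈ P, x ^ 4 = 1 → Commute a x) → ∀ x ∈ P, Commute a x := by
  intro n
  induction n using Nat.strong_induction_on with
  | _ n IH =>
  intro P hn hP haP h4 x hx
  by_cases hbot : P = ⊥
  · rw [hbot, mem_bot] at hx; rw [hx]; exact Commute.one_right a
  haveI : Fact (Nat.Prime 2) := ⟨Nat.prime_two⟩
  set Φ := (frattini P).map P.subtype with hΦ
  have hlt : Φ < P := frattini_map_lt hbot
  have hΦa : a ∈ normalizer (Φ : Set G) := Coprime.normalizer_le_normalizer_map P _ haP
  have hfix : ∀ f ∈ Φ, Commute a f :=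
    IH _ (hn ▸ card_lt_of_lt hlt) Φ rfl (hP.to_le hlt.le) hΦa (fun y hy => h4 y (hlt.le hy))
  have hyP : a * x * a⁻¹ ∈ P := conj_mem_of_mem_normalizer haP hx
  by_cases hC : P ≤ centralizer (Φ : Set G)
  · set y := a * x * a⁻¹ with hy
    have hcomm : ∀ f ∈ Φ, ∀ z ∈ P, Commute f z := fun f hf z hz =>
      mem_centralizer_iff.mp (hC hz) f hf
    have hsq : y ^ 2 = x ^ 2 := by
      rw [hy, conj_pow, (hfix _ (LocalEven62.pow_mem_frattini_map hP hx)).eq, mul_inv_cancel_right]
    have ht : y * x⁻¹ * y⁻¹ * x ∈ Φ := by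
      have := LocalEven62.commutator_le_frattini_map hP
        (commutator_mem_commutator hyP (inv_mem hx))
      rw [commutatorElement_def, inv_inv] at this
      exact this
    set t := y * x⁻¹ * y⁻¹ * x with htdef
    have e1 : y * x⁻¹ = t * x⁻¹ * y := by rw [htdef]; group
    have e2 : x⁻¹ * t = t * x⁻¹ := ((hcomm t ht _ (inv_mem hx)).eq).symm
    have hc2 : (x⁻¹ * y) ^ 2 = t := by
      calc (x⁻¹ * y) ^ 2 = x⁻¹ * (y * x⁻¹) * y := by rw [pow_two]; group
        _ = (x⁻¹ * t) * (x⁻¹ * y ^ 2) := by rw [e1, pow_two]; group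
        _ = t := by rw [e2, hsq, pow_two]; group
    have ht2 : t ^ 2 = 1 := by
      have e3 : y * t = t * y := ((hcomm t ht _ hyP).eq).symm
      have e4 : x⁻¹ = t ^ 2 * x⁻¹ := by
        calc x⁻¹ = y ^ 2 * x⁻¹ * (y ^ 2)⁻¹ := by rw [hsq]; group
          _ = y * (y * x⁻¹) * (y ^ 2)⁻¹ := by rw [pow_two]; group
          _ = (y * t) * x⁻¹ * y * (y ^ 2)⁻¹ := by rw [e1]; group
          _ = t * (y * x⁻¹) * y⁻¹ := by rw [e3]; group
          _ = t ^ 2 * x⁻¹ := by rw [e1, pow_two]; group
      exact mul_eq_right.mp e4.symm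
    have hc4 : (x⁻¹ * y) ^ 4 = 1 := by
      rw [show (4 : ℕ) = 2 * 2 from rfl, pow_mul, hc2, ht2]
    exact fixed_of_displacement (j := 2) ha (mul_inv_cancel_left x y).symm
      (h4 _ (mul_mem (inv_mem hx) hyP) hc4) hc4
  · set C := P ⊓ centralizer (Φ : Set G) with hCdef
    have hClt : C < P := lt_of_le_of_ne inf_le_left fun h => hC (h ▸ inf_le_right)
    have hfix' : ∀ f ∈ C, Commute a f :=
      IH _ (hn ▸ card_lt_of_lt hClt) C rfl (hP.to_le hClt.le)
        (Coprime.le_normalizer_inf (A := zpowers a) (zpowers_le.2 haP)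
          (Coprime.le_normalizer_centralizer (zpowers_le.2 hΦa)) (mem_zpowers a))
        (fun y hy => h4 y (hClt.le hy))
    suffices hmem : x * (a * x * a⁻¹)⁻¹ ∈ C by
      obtain ⟨j, hj⟩ := exists_pow_two hP hmem.1
      refine Commute.inv_right_iff.mp (fixed_of_displacement (j := j) ha ?_ (hfix' _ hmem) hj)
      group
    refine ⟨P.mul_mem hx (P.inv_mem hyP), mem_centralizer_iff.mpr fun f hf => ?_⟩
    have hff : x⁻¹ * f * x ∈ Φ := by
      obtain ⟨f', hf', rfl⟩ := hf
      exact ⟨⟨x, hx⟩⁻¹ * f' * ⟨x, hx⟩,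
        (inferInstance : (frattini P).Normal).conj_mem' f' hf' _, rfl⟩
    have e1 : a * (x⁻¹ * f * x) * a⁻¹ = x⁻¹ * f * x := by
      rw [(hfix _ hff).eq, mul_inv_cancel_right]
    have e2 : a * f * a⁻¹ = f := by rw [(hfix _ hf).eq, mul_inv_cancel_right]
    calc f * (x * (a * x * a⁻¹)⁻¹) = x * (x⁻¹ * f * x) * (a * x * a⁻¹)⁻¹ := by group
      _ = x * (a * (x⁻¹ * f * x) * a⁻¹) * (a * x * a⁻¹)⁻¹ := by rw [e1]
      _ = x * (a * x * a⁻¹)⁻¹ * (a * f * a⁻¹) := by group
      _ = _ := by rw [e2]

theorem grow {M H : Subgroup G} (hM : IsPGroup 2 M) (hle : H ≤ M) {d : ℕ}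
    (h1 : Nat.card H ≤ 2 ^ d) (h2 : 2 ^ d ≤ Nat.card M) :
    ∃ E : Subgroup G, H ≤ E ∧ E ≤ M ∧ Nat.card E = 2 ^ d := by
  haveI : Fact (Nat.Prime 2) := ⟨Nat.prime_two⟩
  obtain ⟨m, hm⟩ := IsPGroup.iff_card.mp hM
  obtain ⟨k, hk⟩ := IsPGroup.iff_card.mp (hM.to_le hle)
  rw [hk, Nat.pow_le_pow_iff_right (by norm_num)] at h1
  rw [hm, Nat.pow_le_pow_iff_right (by norm_num)] at h2
  obtain ⟨K, hK, hHK⟩ := Sylow.exists_subgroup_card_pow_prime_le 2
    (hm ▸ Nat.pow_dvd_pow 2 h2) (H.subgroupOf M)
    ((Nat.card_congr (subgroupOfEquivOfLe hle).toEquiv).trans hk) h1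
  exact ⟨K.map M.subtype, fun x hx => ⟨⟨x, hle hx⟩, hHK (show x ∈ H from hx), rfl⟩,
    map_subtype_le _, (card_subtype M K).trans hK⟩

theorem exists_invariant_coatom {a : G} (ha : Odd (orderOf a)) {P : Subgroup G}
    (hP : IsPGroup 2 P) (haP : a ∈ normalizer (P : Set G)) {e : P} (he : e ∉ frattini P)
    (hae : Commute a (e : G)) :
    ∃ M : Subgroup P, IsCoatom M ∧
      ∀ v : P, (v : G)⁻¹ * (a * v * a⁻¹) ∈ M.map P.subtype := by
  haveI : Fact (Nat.Prime 2) := ⟨Nat.prime_two⟩
  letI : CommGroup (P ⧸ frattini P) :=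
    { (inferInstance : Group (P ⧸ frattini P)) with
      mul_comm := fun x y => PGroup.quotient_frattini_commute hP x y }
  have hai : ∀ i : ℕ, ∀ v : P, a ^ i * (v : G) * (a ^ i)⁻¹ ∈ P := fun i v =>
    conj_mem_of_mem_normalizer (pow_mem haP i) v.2
  set f : ℕ → P → P ⧸ frattini P := fun i v => (⟨_, hai i v⟩ : P) with hf
  have hmul : ∀ i v w, f i (v * w) = f i v * f i w := fun i v w => by
    simp only [hf, ← QuotientGroup.mk_mul]
    congr 1
    ext
    simp [mul_assoc]
  let N : P →* P ⧸ frattini P :=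
    MonoidHom.mk' (fun v => ∏ i ∈ Finset.range (orderOf a), f i v) fun v w => by
      simp only [hmul, Finset.prod_mul_distrib]
  have hshift : ∀ v : P, N ⟨a * v * a⁻¹, conj_mem_of_mem_normalizer haP v.2⟩ = N v := by
    intro v
    have h0 : ∀ i, f i ⟨a * v * a⁻¹, conj_mem_of_mem_normalizer haP v.2⟩ = f (i + 1) v := by
      intro i
      simp only [hf]
      congr 1
      ext
      simp [pow_succ, mul_assoc]
    have hn : f (orderOf a) v = f 0 v := by
      simp only [hf]
      congr 1
      ext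
      simp [pow_orderOf_eq_one]
    simp only [N, MonoidHom.mk'_apply, h0]
    have := (Finset.prod_range_succ' (fun i => f i v) (orderOf a)).symm.trans
      (Finset.prod_range_succ (fun i => f i v) (orderOf a))
    rw [hn] at this
    exact mul_right_cancel this
  have hNe : N e = (e : P ⧸ frattini P) := by
    have h0 : ∀ i, f i e = (e : P ⧸ frattini P) := by
      intro i
      simp only [hf]
      congr 1
      ext
      simp only [(hae.pow_left i).eq, mul_inv_cancel_right]
    obtain ⟨k, hk⟩ := ha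
    simp only [N, MonoidHom.mk'_apply, h0, Finset.prod_const, Finset.card_range, hk, pow_succ,
      pow_mul, PGroup.quotient_frattini_pow hP, one_pow, one_mul]
  have hK : N.ker ≠ ⊤ := fun h => he <| (QuotientGroup.eq_one_iff e).mp <| by
    rw [← hNe]; exact MonoidHom.mem_ker.mp (h ▸ mem_top e)
  obtain ⟨M, hM, hle⟩ := (IsCoatomic.eq_top_or_exists_le_coatom N.ker).resolve_left hK
  refine ⟨M, hM, fun v => ⟨v⁻¹ * ⟨_, conj_mem_of_mem_normalizer haP v.2⟩, hle ?_, rfl⟩⟩
  rw [MonoidHom.mem_ker, map_mul, map_inv, hshift, inv_mul_cancel]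

/-- An element of odd order normalising all subgroups of one proper order centralises. -/
theorem centralizes_of_fixed_order {a : G} (ha : Odd (orderOf a)) {d : ℕ} (hd : 1 ≤ d) :
    ∀ (n : ℕ) (P : Subgroup G), Nat.card P = n → IsPGroup 2 P → a ∈ normalizer (P : Set G) →
      2 ^ d < Nat.card P →
      (∀ E : Subgroup G, E ≤ P → (Nat.card E = 2 ^ d ∨ (d = 1 ∧ Nat.card E = 4)) →
        a ∈ normalizer (E : Set G)) →
      ∀ x ∈ P, Commute a x := by
  intro n
  induction n using Nat.strong_induction_on with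
  | _ n IH =>
  intro P hn hP haP hbig hinv
  haveI : Fact (Nat.Prime 2) := ⟨Nat.prime_two⟩
  rcases hd.eq_or_lt with hd1 | hd2
  · refine centralizes_of_four ha _ P rfl hP haP fun x hx hx4 => ?_
    refine commute_of_normalizes_zpowers ha 2 x hx4 ?_
    obtain ⟨k, hk, hk'⟩ := (Nat.dvd_prime_pow Nat.prime_two).mp
      (show orderOf x ∣ 2 ^ 2 from orderOf_dvd_of_pow_eq_one hx4)
    rw [← Nat.card_zpowers] at hk'
    rcases Nat.eq_zero_or_pos k with hk0 | hk0
    · have : zpowers x = ⊥ := card_eq_one.mp (by rw [hk', hk0, pow_zero])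
      rw [zpowers_eq_bot] at this
      simp [this]
    · refine conj_mem_of_mem_normalizer (hinv _ (zpowers_le.2 hx) ?_) (mem_zpowers x)
      interval_cases k
      · exact Or.inl (by rw [hk', ← hd1])
      · exact Or.inr ⟨hd1.symm, hk'⟩
  have hbot : P ≠ ⊥ := fun h => by
    rw [h, card_bot] at hbig
    exact absurd hbig (not_lt.2 (Nat.one_le_two_pow))
  have hsub : ∀ M : Subgroup G, M < P → a ∈ normalizer (M : Set G) → 2 ^ d < Nat.card M →
      ∀ x ∈ M, Commute a x := fun M hM haM hc =>
    IH _ (hn ▸ card_lt_of_lt hM) M rfl (hP.to_le hM.le) haM hc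
      fun E hE => hinv E (hE.trans hM.le)
  set Φ := (frattini P).map P.subtype with hΦ
  have hΦlt : Φ < P := frattini_map_lt hbot
  have hΦa : a ∈ normalizer (Φ : Set G) := Coprime.normalizer_le_normalizer_map P _ haP
  by_cases hall : ∀ E : Subgroup G, E ≤ P → Nat.card E = 2 ^ d → E ≤ Φ
  · have hsmall : ∀ x ∈ P, orderOf x ≤ 2 ^ d → x ∈ Φ := fun x hx ho => by
      rw [← Nat.card_zpowers] at ho
      obtain ⟨E, h1, h2, h3⟩ := grow hP (zpowers_le.2 hx) ho hbig.le
      exact hall E h2 h3 (h1 (mem_zpowers x))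
    have hΦfix : ∀ f ∈ Φ, Commute a f := by
      rcases lt_or_ge (2 ^ d) (Nat.card Φ) with hc | hc
      · exact hsub Φ hΦlt hΦa hc
      · obtain ⟨x, hx, hxΦ⟩ := SetLike.exists_of_lt hΦlt
        have ho : 2 ^ d < orderOf x := lt_of_not_ge fun h => hxΦ (hsmall x hx h)
        obtain ⟨E, -, h2, h3⟩ := grow (d := d) (hP.to_le (zpowers_le.2 hx)) (bot_le (a := zpowers x))
          (by rw [card_bot]; exact Nat.one_le_two_pow) (by rw [Nat.card_zpowers]; exact ho.le)
        have hEle : E ≤ Φ := hall E (h2.trans (zpowers_le.2 hx)) h3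
        have hEΦ : E = Φ := eq_of_le_of_card_ge hEle (h3 ▸ hc)
        haveI : IsCyclic E := isCyclic_of_injective (inclusion h2) (inclusion_injective h2)
        obtain ⟨z, hz⟩ := isCyclic_iff_exists_zpowers_eq_top.mp ‹IsCyclic E›
        intro f hf
        rw [← hEΦ] at hf hΦa
        have hz' : zpowers (z : G) = E := by
          rw [show (z : G) = E.subtype z from rfl, ← MonoidHom.map_zpowers, hz,
            ← MonoidHom.range_eq_map, range_subtype]
        obtain ⟨j, hj⟩ := exists_pow_two hP (hΦlt.le (hEle z.2))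
        have hz2 : Commute a (z : G) := commute_of_normalizes_zpowers ha j _ hj
          (by rw [hz']; exact conj_mem_of_mem_normalizer hΦa z.2)
        obtain ⟨i, rfl⟩ := mem_zpowers_iff.mp (hz' ▸ hf)
        exact hz2.zpow_right i
    refine centralizes_of_four ha _ P rfl hP haP fun x hx hx4 => hΦfix x (hsmall x hx ?_)
    calc orderOf x ≤ 4 := Nat.le_of_dvd (by norm_num) (orderOf_dvd_of_pow_eq_one hx4)
      _ = 2 ^ 2 := rfl
      _ ≤ 2 ^ d := Nat.pow_le_pow_right (by norm_num) hd2
  push Not at hall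
  obtain ⟨E, hEP, hEc, hEΦ⟩ := hall
  set M0 := E ⊔ Φ with hM0
  have hM0P : M0 < P := by
    refine lt_of_le_of_ne (sup_le hEP hΦlt.le) fun h => ?_
    have h1 : E.subgroupOf P ⊔ frattini P = ⊤ := by
      apply map_injective P.subtype_injective
      rw [Subgroup.map_sup, subgroupOf_map_subtype, inf_of_le_left hEP, ← MonoidHom.range_eq_map,
        range_subtype]
      exact h
    have h2 := subgroupOf_eq_top.mp (frattini_nongenerating h1)
    rw [le_antisymm hEP h2] at hEc
    omega
  have hM0a : a ∈ normalizer (M0 : Set G) :=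
    Coprime.le_normalizer_sup (A := zpowers a) (zpowers_le.2 (hinv E hEP (Or.inl hEc)))
      (zpowers_le.2 hΦa) (mem_zpowers a)
  rcases lt_or_ge (2 ^ d) (Nat.card M0) with hc | hc
  · have hfix := hsub M0 hM0P hM0a hc
    obtain ⟨e, heE, heΦ⟩ := SetLike.not_le_iff_exists.mp hEΦ
    obtain ⟨M, hM, hdisp⟩ := exists_invariant_coatom ha hP haP (e := ⟨e, hEP heE⟩)
      (fun h => heΦ ⟨_, h, rfl⟩) (hfix e (mem_sup_left heE))
    have hidx := PGroup.index_eq_prime_of_isCoatom hP hM
    have hMc := M.card_mul_index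
    rw [hidx] at hMc
    set M' := M.map P.subtype with hM'
    have hM'c : Nat.card M' = Nat.card M := card_subtype P M
    have hM'P : M' < P := by
      refine lt_of_le_of_ne (map_subtype_le _) fun h => hM.1 (map_injective P.subtype_injective
        (h.trans (by rw [← MonoidHom.range_eq_map, range_subtype])))
    have hM'a : a ∈ normalizer (M' : Set G) := mem_norm fun m hm => by
      have := mul_mem hm (hdisp ⟨m, map_subtype_le _ hm⟩)
      rwa [mul_inv_cancel_left] at this
    have hbig' : 2 ^ d < Nat.card M' := by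
      obtain ⟨m, hm⟩ := IsPGroup.iff_card.mp (hP.to_le hM0P.le)
      obtain ⟨k, hk⟩ := IsPGroup.iff_card.mp hP
      have hlt := card_lt_of_lt hM0P
      rw [hm, hk, Nat.pow_lt_pow_iff_right (by norm_num)] at hlt
      have : 2 ^ m * 2 ≤ Nat.card P := by
        rw [hk, ← pow_succ]; exact Nat.pow_le_pow_right (by norm_num) hlt
      rw [hm] at hc
      omega
    intro x hx
    have hcM := hdisp ⟨x, hx⟩
    obtain ⟨j, hj⟩ := exists_pow_two hP (hM'P.le hcM)
    exact fixed_of_displacement (j := j) ha (mul_inv_cancel_left x _).symm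
      (hsub M' hM'P hM'a hbig' _ hcM) hj
  · have hM0E : E = M0 := eq_of_le_of_card_ge le_sup_left (hEc ▸ hc)
    have hΦE : Φ < E := by
      refine lt_of_le_of_ne (hM0E ▸ le_sup_right) fun h => hEΦ h.ge
    have hΦcard : 2 * Nat.card (frattini P) ≤ 2 ^ d := by
      have h1 := card_lt_of_lt hΦE
      rw [card_subtype, hEc] at h1
      obtain ⟨m, hm⟩ := IsPGroup.iff_card.mp (hP.to_subgroup (frattini P))
      rw [hm, Nat.pow_lt_pow_iff_right (by norm_num)] at h1
      rw [hm, ← pow_succ']
      exact Nat.pow_le_pow_right (by norm_num) h1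
    have hcoat : ∀ b ∈ zpowers a, ∀ M : Subgroup P, IsCoatom M → ∀ z ∈ M,
        b * (z : G) * b⁻¹ ∈ M.map P.subtype := by
      intro b hb M hM z hz
      let q := QuotientGroup.mk' (frattini P)
      let H := (zpowers (q z)).comap q
      have hH : Nat.card H ≤ 2 ^ d := by
        have h1 : H.index = (zpowers (q z)).index :=
          index_comap_of_surjective _ (QuotientGroup.mk'_surjective _)
        have h2 := H.card_mul_index
        have h3 := (frattini P).card_mul_index
        have h4 := (zpowers (q z)).card_mul_index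
        rw [index_eq_card (frattini P)] at h3
        rw [h1, ← h3, ← h4, ← mul_assoc] at h2
        have h5 := Nat.eq_of_mul_eq_mul_right (Nat.pos_of_ne_zero index_ne_zero_of_finite) h2
        have h6 : Nat.card (zpowers (q z)) ≤ 2 := by
          rw [Nat.card_zpowers]
          exact orderOf_le_of_pow_eq_one (by norm_num) (PGroup.quotient_frattini_pow hP _)
        rw [h5]
        calc Nat.card (frattini P) * Nat.card (zpowers (q z)) ≤ Nat.card (frattini P) * 2 :=
              Nat.mul_le_mul_left _ h6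
          _ ≤ 2 ^ d := by rw [mul_comm]; exact hΦcard
      have hHM : H ≤ M := by
        intro h hh
        obtain ⟨i, hi⟩ := mem_zpowers_iff.mp (mem_comap.mp hh)
        rw [← map_zpow] at hi
        have h1 := frattini_le_coatom hM (QuotientGroup.eq.mp hi)
        have := mul_mem (zpow_mem hz i) h1
        rwa [mul_inv_cancel_left] at this
      have hzH : z ∈ H := mem_comap.mpr (mem_zpowers _)
      have hMbig : 2 ^ d ≤ Nat.card M := by
        have hMc := M.card_mul_index
        rw [PGroup.index_eq_prime_of_isCoatom hP hM] at hMc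
        obtain ⟨k, hk⟩ := IsPGroup.iff_card.mp hP
        have hbig' := hbig
        rw [hk, Nat.pow_lt_pow_iff_right (by norm_num)] at hbig'
        have : 2 ^ d * 2 ≤ Nat.card P := by
          rw [hk, ← pow_succ]; exact Nat.pow_le_pow_right (by norm_num) hbig'
        omega
      obtain ⟨E', h1, h2, h3⟩ := grow (M := M.map P.subtype) (H := H.map P.subtype)
        (hP.to_le (map_subtype_le _)) (map_mono hHM) (d := d)
        (by rw [card_subtype]; exact hH) (by rw [card_subtype]; exact hMbig)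
      have hb' : b ∈ normalizer (E' : Set G) :=
        zpowers_le.2 (hinv E' (h2.trans (map_subtype_le _)) (Or.inl h3)) hb
      exact h2 (conj_mem_of_mem_normalizer hb' (h1 (mem_map_of_mem _ hzH)))
    have hcop : (Nat.card (zpowers a)).Coprime (Nat.card (frattini P)) := by
      obtain ⟨m, hm⟩ := IsPGroup.iff_card.mp (hP.to_subgroup (frattini P))
      rw [Nat.card_zpowers, hm]
      exact (Nat.coprime_two_right.mpr ha).pow_right m
    intro x hx
    have hcent := Coprime.le_centralizer_of_frattini (zpowers a) P (zpowers_le.2 haP) hcop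
      (fun b hb k hk => by
        have hbk : b * k * b⁻¹ ∈ P := conj_mem_of_mem_normalizer (zpowers_le.2 haP hb) hk
        refine ⟨⟨_, hbk⟩ * ⟨k, hk⟩⁻¹, ?_, rfl⟩
        simp only [SetLike.mem_coe, frattini, Order.radical, mem_iInf]
        intro M hM
        have hi := PGroup.index_eq_prime_of_isCoatom hP hM
        rw [mul_mem_iff_of_index_two hi, inv_mem_iff]
        constructor
        · intro h
          obtain ⟨z, hz, hz'⟩ := hcoat b⁻¹ (inv_mem hb) M hM _ h
          have : (⟨k, hk⟩ : P) = z := Subtype.ext (by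
            rw [show (z : G) = P.subtype z from rfl, hz']
            simp [mul_assoc])
          rw [this]; exact hz
        · intro h
          obtain ⟨z, hz, hz'⟩ := hcoat b hb M hM _ h
          have : (⟨b * k * b⁻¹, hbk⟩ : P) = z := Subtype.ext (by
            rw [show (z : G) = P.subtype z from rfl, hz'])
          rw [this]; exact hz)
    exact (mem_centralizer_iff.mp (hcent (mem_zpowers a)) x hx).symm

end Cfsg.Agent.Lib46
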